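import Cfsg.Agent.Lib.Lead.PF.Tab
import Cfsg.Agent.Lib.Helper6.Fi23TC

/-! # The outer automorphism group of Fi₂₃: the permutation group on the rows of the coset table (generated) -/

set_option autoImplicit false
set_option maxRecDepth 100000

namespace Cfsg.Agent.Fi23Out

open Cfsg.Agent.PF Cfsg.Agent.Lib.Helper6 Cfsg.Agent.Lib.Helper6.TC
open Cfsg.Agent.PL (Acts evalF)

/-- the permutation group on the 31671 rows of the coset table -/
noncomputable abbrev P : Subgroup (Equiv.Perm (Fin 31671)) := Cfsg.Agent.PL.Cox.P Fi23TC.data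

/-- the map of the generator `i` -/
noncomputable def fgen (i : ℕ) : ℕ → ℕ := fun a => Fi23TC.tab.nxt a i

theorem rep_fgen {i : ℕ} (hi : i < 10) : Rep P (fgen i) := rep_gen Fi23TC.data (x := i) hi

end Cfsg.Agent.Fi23Out
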