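import Cfsg.Agent.Lib.Lead.Fi23Out.D0

/-! # The outer automorphism group of Fi₂₃: the check of the table number 0 (generated) -/

set_option autoImplicit false
set_option maxRecDepth 100000

namespace Cfsg.Agent.Fi23Out

open Cfsg.Agent.PF Cfsg.Agent.Lib.Helper6 Cfsg.Agent.Lib.Helper6.TC
open Cfsg.Agent.PL (Acts evalF)

theorem eq0_0 : allR 0 31671 (fun q => Nat.beq (f0 q) (fgen 0 q)) = true := by decide +kernel


end Cfsg.Agent.Fi23Out
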