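import Cfsg.Agent.Lib.Lead.Fi23Out.D14

/-! # The outer automorphism group of Fi₂₃: the check of the table number 14 (generated) -/

set_option autoImplicit false
set_option maxRecDepth 100000

namespace Cfsg.Agent.Fi23Out

open Cfsg.Agent.PF Cfsg.Agent.Lib.Helper6 Cfsg.Agent.Lib.Helper6.TC
open Cfsg.Agent.PL (Acts evalF)

theorem eq14_0 : allR 0 10557 (fun q => Nat.beq (f14 q) (wordR W14 q)) = true := by decide +kernel

theorem eq14_1 : allR 10557 10557 (fun q => Nat.beq (f14 q) (wordR W14 q)) = true := by decide +kernel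

theorem eq14_2 : allR 21114 10557 (fun q => Nat.beq (f14 q) (wordR W14 q)) = true := by decide +kernel


end Cfsg.Agent.Fi23Out
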