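import Cfsg.Agent.Lib.Lead.Fi23Out.D39

/-! # The outer automorphism group of Fi₂₃: the check of the table number 39 (generated) -/

set_option autoImplicit false
set_option maxRecDepth 100000

namespace Cfsg.Agent.Fi23Out

open Cfsg.Agent.PF Cfsg.Agent.Lib.Helper6 Cfsg.Agent.Lib.Helper6.TC
open Cfsg.Agent.PL (Acts evalF)

theorem eq39_0 : allR 0 7918 (fun q => Nat.beq (f39 q) (wordR W39 q)) = true := by decide +kernel

theorem eq39_1 : allR 7918 7918 (fun q => Nat.beq (f39 q) (wordR W39 q)) = true := by decide +kernel

theorem eq39_2 : allR 15836 7918 (fun q => Nat.beq (f39 q) (wordR W39 q)) = true := by decide +kernel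

theorem eq39_3 : allR 23754 7917 (fun q => Nat.beq (f39 q) (wordR W39 q)) = true := by decide +kernel


end Cfsg.Agent.Fi23Out
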