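import Cfsg.Agent.Lib.Lead.Fi23Out.LevAD

/-! # The outer automorphism group of Fi₂₃: the centraliser of `x` (generated) -/

set_option autoImplicit false
set_option maxRecDepth 100000

namespace Cfsg.Agent.Fi23Out

open Cfsg.Agent.PF Cfsg.Agent.Lib.Helper6 Cfsg.Agent.Lib.Helper6.TC
open Cfsg.Agent.PL (Acts evalF)

theorem chk_centX_8 : allR 15840 1980 (fun q => centP 31671 8 f10 [0] 17 LA0 LsA q) = true := by decide +kernel

theorem chk_centX_9 : allR 17820 1980 (fun q => centP 31671 8 f10 [0] 17 LA0 LsA q) = true := by decide +kernel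

theorem chk_centX_10 : allR 19800 1980 (fun q => centP 31671 8 f10 [0] 17 LA0 LsA q) = true := by decide +kernel

theorem chk_centX_11 : allR 21780 1980 (fun q => centP 31671 8 f10 [0] 17 LA0 LsA q) = true := by decide +kernel


end Cfsg.Agent.Fi23Out
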