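import Cfsg.Agent.Lib.Lead.Fi23Out.D10
import Cfsg.Agent.Lib.Lead.Fi23Out.D25
import Cfsg.Agent.Lib.Lead.Fi23Out.D36

/-! # The outer automorphism group of Fi₂₃: the relations between `x`, `y`, `w` (generated) -/

set_option autoImplicit false
set_option maxRecDepth 100000

namespace Cfsg.Agent.Fi23Out

open Cfsg.Agent.PF Cfsg.Agent.Lib.Helper6 Cfsg.Agent.Lib.Helper6.TC
open Cfsg.Agent.PL (Acts evalF)

theorem chk_x_0 : allR 0 15836 (fun q => Nat.beq (f10^[17] q) ((fun q => q) q)) = true := by decide +kernel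

theorem chk_x_1 : allR 15836 15835 (fun q => Nat.beq (f10^[17] q) ((fun q => q) q)) = true := by decide +kernel

/-- the order of `x` divides 17 -/
theorem chk_x : ∀ q < 31671, f10^[17] q = (fun q => q) q :=
  eq_of_chunks (f := f10^[17]) (g := (fun q => q)) [(0, 15836), (15836, 15835)] (by decide) (by
    intro c hc
    simp only [List.mem_cons, List.not_mem_nil, or_false] at hc
    rcases hc with rfl | rfl
    · exact chk_x_0
    · exact chk_x_1
  )

theorem chk_x1 : f10 100 ≠ 100 := by decide +kernel

theorem chk_yx_0 : allR 0 31671 (fun q => Nat.beq ((fun q => f25 (f10 q)) q) ((fun q => f10^[3] (f25 q)) q)) = true := by decide +kernel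

/-- `y x = x ^ 3 y` -/
theorem chk_yx : ∀ q < 31671, (fun q => f25 (f10 q)) q = (fun q => f10^[3] (f25 q)) q :=
  eq_of_chunks (f := (fun q => f25 (f10 q))) (g := (fun q => f10^[3] (f25 q))) [(0, 31671)] (by decide) (by
    intro c hc
    simp only [List.mem_cons, List.not_mem_nil, or_false] at hc
    rcases hc with rfl
    · exact chk_yx_0
  )

theorem chk_wy_0 : allR 0 31671 (fun q => Nat.beq ((fun q => f36 (f25 q)) q) ((fun q => f25^[1] (f36 q)) q)) = true := by decide +kernel

/-- `w y = y ^ 1 w` -/
theorem chk_wy : ∀ q < 31671, (fun q => f36 (f25 q)) q = (fun q => f25^[1] (f36 q)) q :=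
  eq_of_chunks (f := (fun q => f36 (f25 q))) (g := (fun q => f25^[1] (f36 q))) [(0, 31671)] (by decide) (by
    intro c hc
    simp only [List.mem_cons, List.not_mem_nil, or_false] at hc
    rcases hc with rfl
    · exact chk_wy_0
  )

end Cfsg.Agent.Fi23Out
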