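import Cfsg.Agent.Lib.Lead.Fi23Out.LevBD

/-! # The outer automorphism group of Fi₂₃: the number of points of the tree number 1 of the chain `B` (generated) -/

set_option autoImplicit false
set_option maxRecDepth 100000

namespace Cfsg.Agent.Fi23Out

open Cfsg.Agent.PF Cfsg.Agent.Lib.Helper6 Cfsg.Agent.Lib.Helper6.TC
open Cfsg.Agent.PL (Acts evalF)

theorem cntB1_0 : countR 0 10557 (traceTo LB1.2.1 LB1.2.2 LB1.1 8) = 8295 := by decide +kernel

theorem cntB1_1 : countR 10557 10557 (traceTo LB1.2.1 LB1.2.2 LB1.1 8) = 9403 := by decide +kernel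

theorem cntB1_2 : countR 21114 10557 (traceTo LB1.2.1 LB1.2.2 LB1.1 8) = 10462 := by decide +kernel

/-- the number of points of the tree number 1 of the chain `B` -/
theorem lenB1 : (orbitL 31671 LB1.2.1 LB1.2.2 LB1.1 8).length = 28160 := by
  rw [length_orbitL]
  exact (countR_append cntB1_0 (countR_append cntB1_1 (cntB1_2)) :
    countR 0 (10557 + (10557 + (10557))) (traceTo LB1.2.1 LB1.2.2 LB1.1 8) = 8295 + (9403 + (10462)))

end Cfsg.Agent.Fi23Out
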