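import Cfsg.Agent.Lib.Lead.Fi23Out.LevBD

/-! # The outer automorphism group of Fi₂₃: the number of points of the tree number 2 of the chain `B` (generated) -/

set_option autoImplicit false
set_option maxRecDepth 100000

namespace Cfsg.Agent.Fi23Out

open Cfsg.Agent.PF Cfsg.Agent.Lib.Helper6 Cfsg.Agent.Lib.Helper6.TC
open Cfsg.Agent.PL (Acts evalF)

theorem cntB2_0 : countR 0 10557 (traceTo LB2.2.1 LB2.2.2 LB2.1 8) = 6620 := by decide +kernel

theorem cntB2_1 : countR 10557 10557 (traceTo LB2.2.1 LB2.2.2 LB2.1 8) = 7283 := by decide +kernel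

theorem cntB2_2 : countR 21114 10557 (traceTo LB2.2.1 LB2.2.2 LB2.1 8) = 7937 := by decide +kernel

/-- the number of points of the tree number 2 of the chain `B` -/
theorem lenB2 : (orbitL 31671 LB2.2.1 LB2.2.2 LB2.1 8).length = 21840 := by
  rw [length_orbitL]
  exact (countR_append cntB2_0 (countR_append cntB2_1 (cntB2_2)) :
    countR 0 (10557 + (10557 + (10557))) (traceTo LB2.2.1 LB2.2.2 LB2.1 8) = 6620 + (7283 + (7937)))

end Cfsg.Agent.Fi23Out
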