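import Cfsg.Agent.Lib.Lead.Fi23Out.LevBD

/-! # The outer automorphism group of Fi₂₃: the number of points of the tree number 4 of the chain `B` (generated) -/

set_option autoImplicit false
set_option maxRecDepth 100000

namespace Cfsg.Agent.Fi23Out

open Cfsg.Agent.PF Cfsg.Agent.Lib.Helper6 Cfsg.Agent.Lib.Helper6.TC
open Cfsg.Agent.PL (Acts evalF)

theorem cntB4_0 : countR 0 15836 (traceTo LB4.2.1 LB4.2.2 LB4.1 8) = 23 := by decide +kernel

theorem cntB4_1 : countR 15836 15835 (traceTo LB4.2.1 LB4.2.2 LB4.1 8) = 9 := by decide +kernel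

/-- the number of points of the tree number 4 of the chain `B` -/
theorem lenB4 : (orbitL 31671 LB4.2.1 LB4.2.2 LB4.1 8).length = 32 := by
  rw [length_orbitL]
  exact (countR_append cntB4_0 (cntB4_1) :
    countR 0 (15836 + (15835)) (traceTo LB4.2.1 LB4.2.2 LB4.1 8) = 23 + (9))

end Cfsg.Agent.Fi23Out
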