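import Cfsg.Agent.Lib.Lead.Fi23Out.LevBD

/-! # The outer automorphism group of Fi₂₃: the number of points of the tree number 5 of the chain `B` (generated) -/

set_option autoImplicit false
set_option maxRecDepth 100000

namespace Cfsg.Agent.Fi23Out

open Cfsg.Agent.PF Cfsg.Agent.Lib.Helper6 Cfsg.Agent.Lib.Helper6.TC
open Cfsg.Agent.PL (Acts evalF)

theorem cntB5_0 : countR 0 31671 (traceTo LB5.2.1 LB5.2.2 LB5.1 8) = 3 := by decide +kernel

/-- the number of points of the tree number 5 of the chain `B` -/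
theorem lenB5 : (orbitL 31671 LB5.2.1 LB5.2.2 LB5.1 8).length = 3 := by
  rw [length_orbitL]
  exact (cntB5_0 :
    countR 0 (31671) (traceTo LB5.2.1 LB5.2.2 LB5.1 8) = 3)

end Cfsg.Agent.Fi23Out
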