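import Cfsg.Agent.Lib.Lead.Fi23Out.CntB0
import Cfsg.Agent.Lib.Lead.Fi23Out.CntB1
import Cfsg.Agent.Lib.Lead.Fi23Out.CntB2
import Cfsg.Agent.Lib.Lead.Fi23Out.CntB3
import Cfsg.Agent.Lib.Lead.Fi23Out.CntB4
import Cfsg.Agent.Lib.Lead.Fi23Out.CntB5

/-! # The outer automorphism group of Fi₂₃: the numbers of points of the trees of the chain `B` (generated) -/

set_option autoImplicit false
set_option maxRecDepth 100000

namespace Cfsg.Agent.Fi23Out

open Cfsg.Agent.PF Cfsg.Agent.Lib.Helper6 Cfsg.Agent.Lib.Helper6.TC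
open Cfsg.Agent.PL (Acts evalF)

theorem chk_countsB : (treeCounts 31671 8 (LB0 :: LsB)).prod = 4089470473293004800 := by
  have h : treeCounts 31671 8 (LB0 :: LsB) = [31671, 28160, 21840, 2187, 32, 3] := by
    show [(orbitL 31671 LB0.2.1 LB0.2.2 LB0.1 8).length, (orbitL 31671 LB1.2.1 LB1.2.2 LB1.1 8).length, (orbitL 31671 LB2.2.1 LB2.2.2 LB2.1 8).length, (orbitL 31671 LB3.2.1 LB3.2.2 LB3.1 8).length, (orbitL 31671 LB4.2.1 LB4.2.2 LB4.1 8).length, (orbitL 31671 LB5.2.1 LB5.2.2 LB5.1 8).length] = _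
    rw [lenB0, lenB1, lenB2, lenB3, lenB4, lenB5]
  rw [h]
  rfl

end Cfsg.Agent.Fi23Out
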