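import Cfsg.Agent.Lib.Lead.Fi23Out.LevGD

/-! # The outer automorphism group of Fi₂₃: the number of points of the tree number 3 of the chain `G` (generated) -/

set_option autoImplicit false
set_option maxRecDepth 100000

namespace Cfsg.Agent.Fi23Out

open Cfsg.Agent.PF Cfsg.Agent.Lib.Helper6 Cfsg.Agent.Lib.Helper6.TC
open Cfsg.Agent.PL (Acts evalF)

theorem cntG3_0 : countR 0 10557 (traceTo LG3.2.1 LG3.2.2 LG3.1 8) = 2425 := by decide +kernel

theorem cntG3_1 : countR 10557 10557 (traceTo LG3.2.1 LG3.2.2 LG3.1 8) = 2643 := by decide +kernel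

theorem cntG3_2 : countR 21114 10557 (traceTo LG3.2.1 LG3.2.2 LG3.1 8) = 2708 := by decide +kernel

/-- the number of points of the tree number 3 of the chain `G` -/
theorem lenG3 : (orbitL 31671 LG3.2.1 LG3.2.2 LG3.1 8).length = 7776 := by
  rw [length_orbitL]
  exact (countR_append cntG3_0 (countR_append cntG3_1 (cntG3_2)) :
    countR 0 (10557 + (10557 + (10557))) (traceTo LG3.2.1 LG3.2.2 LG3.1 8) = 2425 + (2643 + (2708)))

end Cfsg.Agent.Fi23Out
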