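import Cfsg.Agent.Lib.Lead.Fi23Out.LevGD

/-! # The outer automorphism group of Fi₂₃: the number of points of the tree number 4 of the chain `G` (generated) -/

set_option autoImplicit false
set_option maxRecDepth 100000

namespace Cfsg.Agent.Fi23Out

open Cfsg.Agent.PF Cfsg.Agent.Lib.Helper6 Cfsg.Agent.Lib.Helper6.TC
open Cfsg.Agent.PL (Acts evalF)

theorem cntG4_0 : countR 0 15836 (traceTo LG4.2.1 LG4.2.2 LG4.1 8) = 11 := by decide +kernel

theorem cntG4_1 : countR 15836 15835 (traceTo LG4.2.1 LG4.2.2 LG4.1 8) = 16 := by decide +kernel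

/-- the number of points of the tree number 4 of the chain `G` -/
theorem lenG4 : (orbitL 31671 LG4.2.1 LG4.2.2 LG4.1 8).length = 27 := by
  rw [length_orbitL]
  exact (countR_append cntG4_0 (cntG4_1) :
    countR 0 (15836 + (15835)) (traceTo LG4.2.1 LG4.2.2 LG4.1 8) = 11 + (16))

end Cfsg.Agent.Fi23Out
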