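import Cfsg.Agent.Lib.Lead.Fi23Out.CntG0
import Cfsg.Agent.Lib.Lead.Fi23Out.CntG1
import Cfsg.Agent.Lib.Lead.Fi23Out.CntG2
import Cfsg.Agent.Lib.Lead.Fi23Out.CntG3
import Cfsg.Agent.Lib.Lead.Fi23Out.CntG4

/-! # The outer automorphism group of Fi₂₃: the numbers of points of the trees of the chain `G` (generated) -/

set_option autoImplicit false
set_option maxRecDepth 100000

namespace Cfsg.Agent.Fi23Out

open Cfsg.Agent.PF Cfsg.Agent.Lib.Helper6 Cfsg.Agent.Lib.Helper6.TC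
open Cfsg.Agent.PL (Acts evalF)

theorem chk_countsG : (treeCounts 31671 8 (LG0 :: LsG)).prod = 4089470473293004800 := by
  have h : treeCounts 31671 8 (LG0 :: LsG) = [31671, 28160, 21840, 7776, 27] := by
    show [(orbitL 31671 LG0.2.1 LG0.2.2 LG0.1 8).length, (orbitL 31671 LG1.2.1 LG1.2.2 LG1.1 8).length, (orbitL 31671 LG2.2.1 LG2.2.2 LG2.1 8).length, (orbitL 31671 LG3.2.1 LG3.2.2 LG3.1 8).length, (orbitL 31671 LG4.2.1 LG4.2.2 LG4.1 8).length] = _
    rw [lenG0, lenG1, lenG2, lenG3, lenG4]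
  rw [h]
  rfl

end Cfsg.Agent.Fi23Out
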