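import Cfsg.Agent.Lib.Lead.Fi23Out.Base

/-! # The outer automorphism group of Fi₂₃: the relations used (generated) -/

set_option autoImplicit false
set_option maxRecDepth 100000

namespace Cfsg.Agent.Fi23Out

open Cfsg.Agent.PF Cfsg.Agent.Lib.Helper6 Cfsg.Agent.Lib.Helper6.TC
open Cfsg.Agent.PL (Acts evalF)

/-- relations `u ^ k = 1` between `x`, `y`, `w⁻¹` with test points -/
def kills : List (List ℕ × ℕ × ℕ) := [([0, 2], 36, 0), ([0, 1, 2], 30, 0)]

end Cfsg.Agent.Fi23Out
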