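import Cfsg.Agent.Lib.Lead.Fi23Out.Kill0
import Cfsg.Agent.Lib.Lead.Fi23Out.Kill1
import Cfsg.Agent.Lib.Lead.Fi23Out.Kill2
import Cfsg.Agent.Lib.Lead.Fi23Out.Kill3

/-! # The outer automorphism group of Fi₂₃: the candidates for the images of `w` (generated) -/

set_option autoImplicit false
set_option maxRecDepth 100000

namespace Cfsg.Agent.Fi23Out

open Cfsg.Agent.PF Cfsg.Agent.Lib.Helper6 Cfsg.Agent.Lib.Helper6.TC
open Cfsg.Agent.PL (Acts evalF)

/-- every candidate other than the identity violates a relation -/
theorem chk_kill : ∀ q < 31671, killF 31671 8 f10 f25 fv [] LB0 LsB kills 0 q = true :=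
  forall_lt_of_chunks (f := fun q => killF 31671 8 f10 f25 fv [] LB0 LsB kills 0 q) [(0, 1980), (1980, 1980), (3960, 1980), (5940, 1980), (7920, 1980), (9900, 1980), (11880, 1980), (13860, 1980), (15840, 1980), (17820, 1980), (19800, 1980), (21780, 1980), (23760, 1980), (25740, 1980), (27720, 1980), (29700, 1971)] (by decide) (by
    intro c hc
    simp only [List.mem_cons, List.not_mem_nil, or_false] at hc
    rcases hc with rfl | rfl | rfl | rfl | rfl | rfl | rfl | rfl | rfl | rfl | rfl | rfl | rfl | rfl | rfl | rfl
    · exact chk_kill_0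
    · exact chk_kill_1
    · exact chk_kill_2
    · exact chk_kill_3
    · exact chk_kill_4
    · exact chk_kill_5
    · exact chk_kill_6
    · exact chk_kill_7
    · exact chk_kill_8
    · exact chk_kill_9
    · exact chk_kill_10
    · exact chk_kill_11
    · exact chk_kill_12
    · exact chk_kill_13
    · exact chk_kill_14
    · exact chk_kill_15
  )

end Cfsg.Agent.Fi23Out
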