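import Cfsg.Agent.Lib.Lead.Fi23Out.LevBD
import Cfsg.Agent.Lib.Lead.Fi23Out.DV
import Cfsg.Agent.Lib.Lead.Fi23Out.Kills

/-! # The outer automorphism group of Fi₂₃: the candidates for the images of `w` (generated) -/

set_option autoImplicit false
set_option maxRecDepth 100000

namespace Cfsg.Agent.Fi23Out

open Cfsg.Agent.PF Cfsg.Agent.Lib.Helper6 Cfsg.Agent.Lib.Helper6.TC
open Cfsg.Agent.PL (Acts evalF)

theorem chk_kill_0 : allR 0 1980 (fun q => killF 31671 8 f10 f25 fv [] LB0 LsB kills 0 q) = true := by decide +kernel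

theorem chk_kill_1 : allR 1980 1980 (fun q => killF 31671 8 f10 f25 fv [] LB0 LsB kills 0 q) = true := by decide +kernel

theorem chk_kill_2 : allR 3960 1980 (fun q => killF 31671 8 f10 f25 fv [] LB0 LsB kills 0 q) = true := by decide +kernel

theorem chk_kill_3 : allR 5940 1980 (fun q => killF 31671 8 f10 f25 fv [] LB0 LsB kills 0 q) = true := by decide +kernel


end Cfsg.Agent.Fi23Out
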