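import Cfsg.Agent.Lib.Lead.Fi23Out.C5

/-! # The outer automorphism group of Fi₂₃: the element number 5 (generated) -/

set_option autoImplicit false
set_option maxRecDepth 100000

namespace Cfsg.Agent.Fi23Out

open Cfsg.Agent.PF Cfsg.Agent.Lib.Helper6 Cfsg.Agent.Lib.Helper6.TC
open Cfsg.Agent.PL (Acts evalF)

/-- the table agrees with the column of the coset table -/
theorem eq5 : ∀ q < 31671, f5 q = fgen 5 q :=
  eq_of_chunks (f := f5) (g := fgen 5) [(0, 31671)] (by decide) (by
    intro c hc
    simp only [List.mem_cons, List.not_mem_nil, or_false] at hc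
    rcases hc with rfl
    · exact eq5_0
  )

theorem rep5 : Rep P f5 := (rep_fgen (i := 5) (by norm_num)).congr eq5

end Cfsg.Agent.Fi23Out
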