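import Cfsg.Agent.Lib.Lead.Fi23Out.C11
import Cfsg.Agent.Lib.Lead.Fi23Out.T1
import Cfsg.Agent.Lib.Lead.Fi23Out.T3
import Cfsg.Agent.Lib.Lead.Fi23Out.T4
import Cfsg.Agent.Lib.Lead.Fi23Out.T5
import Cfsg.Agent.Lib.Lead.Fi23Out.T6
import Cfsg.Agent.Lib.Lead.Fi23Out.T7
import Cfsg.Agent.Lib.Lead.Fi23Out.T8
import Cfsg.Agent.Lib.Lead.Fi23Out.T10

/-! # The outer automorphism group of Fi₂₃: the element number 11 (generated) -/

set_option autoImplicit false
set_option maxRecDepth 100000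

namespace Cfsg.Agent.Fi23Out

open Cfsg.Agent.PF Cfsg.Agent.Lib.Helper6 Cfsg.Agent.Lib.Helper6.TC
open Cfsg.Agent.PL (Acts evalF)

/-- the table agrees with the word -/
theorem eq11 : ∀ q < 31671, f11 q = wordR W11 q :=
  eq_of_chunks (f := f11) (g := wordR W11) [(0, 15836), (15836, 15835)] (by decide) (by
    intro c hc
    simp only [List.mem_cons, List.not_mem_nil, or_false] at hc
    rcases hc with rfl | rfl
    · exact eq11_0
    · exact eq11_1
  )

theorem rep11 : Rep P f11 :=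
  (rep_wordR (l := W11) (Reps.cons rep5 (Reps.cons rep8 (Reps.cons rep10 (Reps.cons rep3 (Reps.cons rep5 (Reps.cons rep4 (Reps.cons rep4 (Reps.cons rep1 (Reps.cons rep7 (Reps.cons rep7 (Reps.cons rep7 (Reps.cons rep10 (Reps.cons rep6 (Reps.cons rep3 (Reps.nil P)))))))))))))))).congr eq11

end Cfsg.Agent.Fi23Out
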