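import Cfsg.Agent.Lib.Lead.Fi23Out.C14
import Cfsg.Agent.Lib.Lead.Fi23Out.T3
import Cfsg.Agent.Lib.Lead.Fi23Out.T5
import Cfsg.Agent.Lib.Lead.Fi23Out.T7
import Cfsg.Agent.Lib.Lead.Fi23Out.T8
import Cfsg.Agent.Lib.Lead.Fi23Out.T10
import Cfsg.Agent.Lib.Lead.Fi23Out.T11
import Cfsg.Agent.Lib.Lead.Fi23Out.T12
import Cfsg.Agent.Lib.Lead.Fi23Out.T13

/-! # The outer automorphism group of Fi₂₃: the element number 14 (generated) -/

set_option autoImplicit false
set_option maxRecDepth 100000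

namespace Cfsg.Agent.Fi23Out

open Cfsg.Agent.PF Cfsg.Agent.Lib.Helper6 Cfsg.Agent.Lib.Helper6.TC
open Cfsg.Agent.PL (Acts evalF)

/-- the table agrees with the word -/
theorem eq14 : ∀ q < 31671, f14 q = wordR W14 q :=
  eq_of_chunks (f := f14) (g := wordR W14) [(0, 10557), (10557, 10557), (21114, 10557)] (by decide) (by
    intro c hc
    simp only [List.mem_cons, List.not_mem_nil, or_false] at hc
    rcases hc with rfl | rfl | rfl
    · exact eq14_0
    · exact eq14_1
    · exact eq14_2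
  )

theorem rep14 : Rep P f14 :=
  (rep_wordR (l := W14) (Reps.cons rep12 (Reps.cons rep13 (Reps.cons rep11 (Reps.cons rep11 (Reps.cons rep13 (Reps.cons rep13 (Reps.cons rep13 (Reps.cons rep5 (Reps.cons rep10 (Reps.cons rep3 (Reps.cons rep12 (Reps.cons rep8 (Reps.cons rep3 (Reps.cons rep5 (Reps.cons rep3 (Reps.cons rep10 (Reps.cons rep3 (Reps.cons rep12 (Reps.cons rep7 (Reps.nil P))))))))))))))))))))).congr eq14

end Cfsg.Agent.Fi23Out
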