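import Cfsg.Agent.Lib.Lead.Fi23Out.C15
import Cfsg.Agent.Lib.Lead.Fi23Out.T0
import Cfsg.Agent.Lib.Lead.Fi23Out.T2
import Cfsg.Agent.Lib.Lead.Fi23Out.T3
import Cfsg.Agent.Lib.Lead.Fi23Out.T6
import Cfsg.Agent.Lib.Lead.Fi23Out.T8
import Cfsg.Agent.Lib.Lead.Fi23Out.T10
import Cfsg.Agent.Lib.Lead.Fi23Out.T11
import Cfsg.Agent.Lib.Lead.Fi23Out.T13
import Cfsg.Agent.Lib.Lead.Fi23Out.T14

/-! # The outer automorphism group of Fi₂₃: the element number 15 (generated) -/

set_option autoImplicit false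
set_option maxRecDepth 100000

namespace Cfsg.Agent.Fi23Out

open Cfsg.Agent.PF Cfsg.Agent.Lib.Helper6 Cfsg.Agent.Lib.Helper6.TC
open Cfsg.Agent.PL (Acts evalF)

/-- the table agrees with the word -/
theorem eq15 : ∀ q < 31671, f15 q = wordR W15 q :=
  eq_of_chunks (f := f15) (g := wordR W15) [(0, 15836), (15836, 15835)] (by decide) (by
    intro c hc
    simp only [List.mem_cons, List.not_mem_nil, or_false] at hc
    rcases hc with rfl | rfl
    · exact eq15_0
    · exact eq15_1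
  )

theorem rep15 : Rep P f15 :=
  (rep_wordR (l := W15) (Reps.cons rep3 (Reps.cons rep10 (Reps.cons rep2 (Reps.cons rep11 (Reps.cons rep14 (Reps.cons rep0 (Reps.cons rep6 (Reps.cons rep13 (Reps.cons rep14 (Reps.cons rep8 (Reps.cons rep14 (Reps.cons rep10 (Reps.nil P)))))))))))))).congr eq15

end Cfsg.Agent.Fi23Out
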