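import Cfsg.Agent.Lib.Lead.Fi23Out.C16
import Cfsg.Agent.Lib.Lead.Fi23Out.T11
import Cfsg.Agent.Lib.Lead.Fi23Out.T12
import Cfsg.Agent.Lib.Lead.Fi23Out.T13
import Cfsg.Agent.Lib.Lead.Fi23Out.T14
import Cfsg.Agent.Lib.Lead.Fi23Out.T15

/-! # The outer automorphism group of Fi₂₃: the element number 16 (generated) -/

set_option autoImplicit false
set_option maxRecDepth 100000

namespace Cfsg.Agent.Fi23Out

open Cfsg.Agent.PF Cfsg.Agent.Lib.Helper6 Cfsg.Agent.Lib.Helper6.TC
open Cfsg.Agent.PL (Acts evalF)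

/-- the table agrees with the word -/
theorem eq16 : ∀ q < 31671, f16 q = wordR W16 q :=
  eq_of_chunks (f := f16) (g := wordR W16) [(0, 15836), (15836, 15835)] (by decide) (by
    intro c hc
    simp only [List.mem_cons, List.not_mem_nil, or_false] at hc
    rcases hc with rfl | rfl
    · exact eq16_0
    · exact eq16_1
  )

theorem rep16 : Rep P f16 :=
  (rep_wordR (l := W16) (Reps.cons rep11 (Reps.cons rep14 (Reps.cons rep12 (Reps.cons rep15 (Reps.cons rep11 (Reps.cons rep14 (Reps.cons rep11 (Reps.cons rep13 (Reps.cons rep15 (Reps.cons rep14 (Reps.cons rep15 (Reps.cons rep12 (Reps.cons rep13 (Reps.cons rep13 (Reps.nil P)))))))))))))))).congr eq16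

end Cfsg.Agent.Fi23Out
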