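import Cfsg.Agent.Lib.Lead.Fi23Out.C17
import Cfsg.Agent.Lib.Lead.Fi23Out.T1
import Cfsg.Agent.Lib.Lead.Fi23Out.T7
import Cfsg.Agent.Lib.Lead.Fi23Out.T11
import Cfsg.Agent.Lib.Lead.Fi23Out.T12
import Cfsg.Agent.Lib.Lead.Fi23Out.T13
import Cfsg.Agent.Lib.Lead.Fi23Out.T15
import Cfsg.Agent.Lib.Lead.Fi23Out.T16

/-! # The outer automorphism group of Fi₂₃: the element number 17 (generated) -/

set_option autoImplicit false
set_option maxRecDepth 100000

namespace Cfsg.Agent.Fi23Out

open Cfsg.Agent.PF Cfsg.Agent.Lib.Helper6 Cfsg.Agent.Lib.Helper6.TC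
open Cfsg.Agent.PL (Acts evalF)

/-- the table agrees with the word -/
theorem eq17 : ∀ q < 31671, f17 q = wordR W17 q :=
  eq_of_chunks (f := f17) (g := wordR W17) [(0, 15836), (15836, 15835)] (by decide) (by
    intro c hc
    simp only [List.mem_cons, List.not_mem_nil, or_false] at hc
    rcases hc with rfl | rfl
    · exact eq17_0
    · exact eq17_1
  )

theorem rep17 : Rep P f17 :=
  (rep_wordR (l := W17) (Reps.cons rep11 (Reps.cons rep16 (Reps.cons rep11 (Reps.cons rep15 (Reps.cons rep15 (Reps.cons rep15 (Reps.cons rep13 (Reps.cons rep15 (Reps.cons rep16 (Reps.cons rep12 (Reps.cons rep1 (Reps.cons rep15 (Reps.cons rep7 (Reps.cons rep12 (Reps.cons rep13 (Reps.nil P))))))))))))))))).congr eq17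

end Cfsg.Agent.Fi23Out
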