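import Cfsg.Agent.Lib.Lead.Fi23Out.C18
import Cfsg.Agent.Lib.Lead.Fi23Out.T2
import Cfsg.Agent.Lib.Lead.Fi23Out.T3
import Cfsg.Agent.Lib.Lead.Fi23Out.T5
import Cfsg.Agent.Lib.Lead.Fi23Out.T8
import Cfsg.Agent.Lib.Lead.Fi23Out.T11
import Cfsg.Agent.Lib.Lead.Fi23Out.T13
import Cfsg.Agent.Lib.Lead.Fi23Out.T14
import Cfsg.Agent.Lib.Lead.Fi23Out.T15
import Cfsg.Agent.Lib.Lead.Fi23Out.T16
import Cfsg.Agent.Lib.Lead.Fi23Out.T17

/-! # The outer automorphism group of Fi₂₃: the element number 18 (generated) -/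

set_option autoImplicit false
set_option maxRecDepth 100000

namespace Cfsg.Agent.Fi23Out

open Cfsg.Agent.PF Cfsg.Agent.Lib.Helper6 Cfsg.Agent.Lib.Helper6.TC
open Cfsg.Agent.PL (Acts evalF)

/-- the table agrees with the word -/
theorem eq18 : ∀ q < 31671, f18 q = wordR W18 q :=
  eq_of_chunks (f := f18) (g := wordR W18) [(0, 10557), (10557, 10557), (21114, 10557)] (by decide) (by
    intro c hc
    simp only [List.mem_cons, List.not_mem_nil, or_false] at hc
    rcases hc with rfl | rfl | rfl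
    · exact eq18_0
    · exact eq18_1
    · exact eq18_2
  )

theorem rep18 : Rep P f18 :=
  (rep_wordR (l := W18) (Reps.cons rep14 (Reps.cons rep16 (Reps.cons rep17 (Reps.cons rep16 (Reps.cons rep17 (Reps.cons rep14 (Reps.cons rep17 (Reps.cons rep14 (Reps.cons rep17 (Reps.cons rep17 (Reps.cons rep15 (Reps.cons rep17 (Reps.cons rep14 (Reps.cons rep13 (Reps.cons rep3 (Reps.cons rep8 (Reps.cons rep15 (Reps.cons rep5 (Reps.cons rep11 (Reps.cons rep17 (Reps.cons rep11 (Reps.cons rep2 (Reps.cons rep14 (Reps.cons rep16 (Reps.cons rep3 (Reps.cons rep5 (Reps.nil P)))))))))))))))))))))))))))).congr eq18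

end Cfsg.Agent.Fi23Out
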