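import Cfsg.Agent.Lib.Lead.Fi23Out.C19
import Cfsg.Agent.Lib.Lead.Fi23Out.T0
import Cfsg.Agent.Lib.Lead.Fi23Out.T1
import Cfsg.Agent.Lib.Lead.Fi23Out.T6
import Cfsg.Agent.Lib.Lead.Fi23Out.T9
import Cfsg.Agent.Lib.Lead.Fi23Out.T11
import Cfsg.Agent.Lib.Lead.Fi23Out.T12
import Cfsg.Agent.Lib.Lead.Fi23Out.T14
import Cfsg.Agent.Lib.Lead.Fi23Out.T15
import Cfsg.Agent.Lib.Lead.Fi23Out.T17
import Cfsg.Agent.Lib.Lead.Fi23Out.T18

/-! # The outer automorphism group of Fi₂₃: the element number 19 (generated) -/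

set_option autoImplicit false
set_option maxRecDepth 100000

namespace Cfsg.Agent.Fi23Out

open Cfsg.Agent.PF Cfsg.Agent.Lib.Helper6 Cfsg.Agent.Lib.Helper6.TC
open Cfsg.Agent.PL (Acts evalF)

/-- the table agrees with the word -/
theorem eq19 : ∀ q < 31671, f19 q = wordR W19 q :=
  eq_of_chunks (f := f19) (g := wordR W19) [(0, 10557), (10557, 10557), (21114, 10557)] (by decide) (by
    intro c hc
    simp only [List.mem_cons, List.not_mem_nil, or_false] at hc
    rcases hc with rfl | rfl | rfl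
    · exact eq19_0
    · exact eq19_1
    · exact eq19_2
  )

theorem rep19 : Rep P f19 :=
  (rep_wordR (l := W19) (Reps.cons rep17 (Reps.cons rep14 (Reps.cons rep17 (Reps.cons rep14 (Reps.cons rep11 (Reps.cons rep14 (Reps.cons rep17 (Reps.cons rep11 (Reps.cons rep11 (Reps.cons rep15 (Reps.cons rep0 (Reps.cons rep11 (Reps.cons rep18 (Reps.cons rep1 (Reps.cons rep6 (Reps.cons rep12 (Reps.cons rep11 (Reps.cons rep15 (Reps.cons rep0 (Reps.cons rep15 (Reps.cons rep1 (Reps.cons rep9 (Reps.cons rep18 (Reps.nil P))))))))))))))))))))))))).congr eq19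

end Cfsg.Agent.Fi23Out
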