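import Cfsg.Agent.Lib.Lead.Fi23Out.C20
import Cfsg.Agent.Lib.Lead.Fi23Out.T0
import Cfsg.Agent.Lib.Lead.Fi23Out.T5
import Cfsg.Agent.Lib.Lead.Fi23Out.T6
import Cfsg.Agent.Lib.Lead.Fi23Out.T7
import Cfsg.Agent.Lib.Lead.Fi23Out.T11
import Cfsg.Agent.Lib.Lead.Fi23Out.T12
import Cfsg.Agent.Lib.Lead.Fi23Out.T14
import Cfsg.Agent.Lib.Lead.Fi23Out.T16
import Cfsg.Agent.Lib.Lead.Fi23Out.T17

/-! # The outer automorphism group of Fi₂₃: the element number 20 (generated) -/

set_option autoImplicit false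
set_option maxRecDepth 100000

namespace Cfsg.Agent.Fi23Out

open Cfsg.Agent.PF Cfsg.Agent.Lib.Helper6 Cfsg.Agent.Lib.Helper6.TC
open Cfsg.Agent.PL (Acts evalF)

/-- the table agrees with the word -/
theorem eq20 : ∀ q < 31671, f20 q = wordR W20 q :=
  eq_of_chunks (f := f20) (g := wordR W20) [(0, 10557), (10557, 10557), (21114, 10557)] (by decide) (by
    intro c hc
    simp only [List.mem_cons, List.not_mem_nil, or_false] at hc
    rcases hc with rfl | rfl | rfl
    · exact eq20_0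
    · exact eq20_1
    · exact eq20_2
  )

theorem rep20 : Rep P f20 :=
  (rep_wordR (l := W20) (Reps.cons rep16 (Reps.cons rep16 (Reps.cons rep16 (Reps.cons rep17 (Reps.cons rep16 (Reps.cons rep16 (Reps.cons rep16 (Reps.cons rep11 (Reps.cons rep11 (Reps.cons rep12 (Reps.cons rep12 (Reps.cons rep0 (Reps.cons rep14 (Reps.cons rep16 (Reps.cons rep14 (Reps.cons rep5 (Reps.cons rep5 (Reps.cons rep16 (Reps.cons rep7 (Reps.cons rep0 (Reps.cons rep6 (Reps.cons rep17 (Reps.cons rep17 (Reps.nil P))))))))))))))))))))))))).congr eq20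

end Cfsg.Agent.Fi23Out
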