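import Cfsg.Agent.Lib.Lead.Fi23Out.C21
import Cfsg.Agent.Lib.Lead.Fi23Out.T16
import Cfsg.Agent.Lib.Lead.Fi23Out.T17
import Cfsg.Agent.Lib.Lead.Fi23Out.T18
import Cfsg.Agent.Lib.Lead.Fi23Out.T19
import Cfsg.Agent.Lib.Lead.Fi23Out.T20

/-! # The outer automorphism group of Fi₂₃: the element number 21 (generated) -/

set_option autoImplicit false
set_option maxRecDepth 100000

namespace Cfsg.Agent.Fi23Out

open Cfsg.Agent.PF Cfsg.Agent.Lib.Helper6 Cfsg.Agent.Lib.Helper6.TC
open Cfsg.Agent.PL (Acts evalF)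

/-- the table agrees with the word -/
theorem eq21 : ∀ q < 31671, f21 q = wordR W21 q :=
  eq_of_chunks (f := f21) (g := wordR W21) [(0, 15836), (15836, 15835)] (by decide) (by
    intro c hc
    simp only [List.mem_cons, List.not_mem_nil, or_false] at hc
    rcases hc with rfl | rfl
    · exact eq21_0
    · exact eq21_1
  )

theorem rep21 : Rep P f21 :=
  (rep_wordR (l := W21) (Reps.cons rep17 (Reps.cons rep18 (Reps.cons rep19 (Reps.cons rep16 (Reps.cons rep18 (Reps.cons rep19 (Reps.cons rep19 (Reps.cons rep17 (Reps.cons rep18 (Reps.cons rep17 (Reps.cons rep20 (Reps.cons rep19 (Reps.cons rep19 (Reps.cons rep20 (Reps.nil P)))))))))))))))).congr eq21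

end Cfsg.Agent.Fi23Out
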