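import Cfsg.Agent.Lib.Lead.Fi23Out.C22
import Cfsg.Agent.Lib.Lead.Fi23Out.T11
import Cfsg.Agent.Lib.Lead.Fi23Out.T14
import Cfsg.Agent.Lib.Lead.Fi23Out.T16
import Cfsg.Agent.Lib.Lead.Fi23Out.T17
import Cfsg.Agent.Lib.Lead.Fi23Out.T18
import Cfsg.Agent.Lib.Lead.Fi23Out.T19
import Cfsg.Agent.Lib.Lead.Fi23Out.T20
import Cfsg.Agent.Lib.Lead.Fi23Out.T21

/-! # The outer automorphism group of Fi₂₃: the element number 22 (generated) -/

set_option autoImplicit false
set_option maxRecDepth 100000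

namespace Cfsg.Agent.Fi23Out

open Cfsg.Agent.PF Cfsg.Agent.Lib.Helper6 Cfsg.Agent.Lib.Helper6.TC
open Cfsg.Agent.PL (Acts evalF)

/-- the table agrees with the word -/
theorem eq22 : ∀ q < 31671, f22 q = wordR W22 q :=
  eq_of_chunks (f := f22) (g := wordR W22) [(0, 10557), (10557, 10557), (21114, 10557)] (by decide) (by
    intro c hc
    simp only [List.mem_cons, List.not_mem_nil, or_false] at hc
    rcases hc with rfl | rfl | rfl
    · exact eq22_0
    · exact eq22_1
    · exact eq22_2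
  )

theorem rep22 : Rep P f22 :=
  (rep_wordR (l := W22) (Reps.cons rep19 (Reps.cons rep18 (Reps.cons rep20 (Reps.cons rep19 (Reps.cons rep19 (Reps.cons rep18 (Reps.cons rep16 (Reps.cons rep21 (Reps.cons rep17 (Reps.cons rep19 (Reps.cons rep19 (Reps.cons rep21 (Reps.cons rep11 (Reps.cons rep21 (Reps.cons rep19 (Reps.cons rep18 (Reps.cons rep17 (Reps.cons rep19 (Reps.cons rep19 (Reps.cons rep14 (Reps.cons rep17 (Reps.cons rep11 (Reps.cons rep18 (Reps.cons rep16 (Reps.cons rep20 (Reps.nil P))))))))))))))))))))))))))).congr eq22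

end Cfsg.Agent.Fi23Out
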