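import Cfsg.Agent.Lib.Lead.Fi23Out.C23
import Cfsg.Agent.Lib.Lead.Fi23Out.T0
import Cfsg.Agent.Lib.Lead.Fi23Out.T5
import Cfsg.Agent.Lib.Lead.Fi23Out.T11
import Cfsg.Agent.Lib.Lead.Fi23Out.T12
import Cfsg.Agent.Lib.Lead.Fi23Out.T13
import Cfsg.Agent.Lib.Lead.Fi23Out.T14
import Cfsg.Agent.Lib.Lead.Fi23Out.T15
import Cfsg.Agent.Lib.Lead.Fi23Out.T16
import Cfsg.Agent.Lib.Lead.Fi23Out.T17
import Cfsg.Agent.Lib.Lead.Fi23Out.T18
import Cfsg.Agent.Lib.Lead.Fi23Out.T19
import Cfsg.Agent.Lib.Lead.Fi23Out.T21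
import Cfsg.Agent.Lib.Lead.Fi23Out.T22

/-! # The outer automorphism group of Fi₂₃: the element number 23 (generated) -/

set_option autoImplicit false
set_option maxRecDepth 100000

namespace Cfsg.Agent.Fi23Out

open Cfsg.Agent.PF Cfsg.Agent.Lib.Helper6 Cfsg.Agent.Lib.Helper6.TC
open Cfsg.Agent.PL (Acts evalF)

/-- the table agrees with the word -/
theorem eq23 : ∀ q < 31671, f23 q = wordR W23 q :=
  eq_of_chunks (f := f23) (g := wordR W23) [(0, 10557), (10557, 10557), (21114, 10557)] (by decide) (by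
    intro c hc
    simp only [List.mem_cons, List.not_mem_nil, or_false] at hc
    rcases hc with rfl | rfl | rfl
    · exact eq23_0
    · exact eq23_1
    · exact eq23_2
  )

theorem rep23 : Rep P f23 :=
  (rep_wordR (l := W23) (Reps.cons rep21 (Reps.cons rep21 (Reps.cons rep18 (Reps.cons rep22 (Reps.cons rep14 (Reps.cons rep22 (Reps.cons rep17 (Reps.cons rep18 (Reps.cons rep19 (Reps.cons rep11 (Reps.cons rep13 (Reps.cons rep21 (Reps.cons rep12 (Reps.cons rep11 (Reps.cons rep5 (Reps.cons rep11 (Reps.cons rep16 (Reps.cons rep19 (Reps.cons rep16 (Reps.cons rep13 (Reps.cons rep15 (Reps.cons rep11 (Reps.cons rep13 (Reps.cons rep11 (Reps.cons rep0 (Reps.cons rep17 (Reps.nil P)))))))))))))))))))))))))))).congr eq23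

end Cfsg.Agent.Fi23Out
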