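import Cfsg.Agent.Lib.Lead.Fi23Out.C24
import Cfsg.Agent.Lib.Lead.Fi23Out.T0
import Cfsg.Agent.Lib.Lead.Fi23Out.T3
import Cfsg.Agent.Lib.Lead.Fi23Out.T4
import Cfsg.Agent.Lib.Lead.Fi23Out.T5
import Cfsg.Agent.Lib.Lead.Fi23Out.T7
import Cfsg.Agent.Lib.Lead.Fi23Out.T10
import Cfsg.Agent.Lib.Lead.Fi23Out.T11
import Cfsg.Agent.Lib.Lead.Fi23Out.T14
import Cfsg.Agent.Lib.Lead.Fi23Out.T16
import Cfsg.Agent.Lib.Lead.Fi23Out.T17
import Cfsg.Agent.Lib.Lead.Fi23Out.T18
import Cfsg.Agent.Lib.Lead.Fi23Out.T19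
import Cfsg.Agent.Lib.Lead.Fi23Out.T20
import Cfsg.Agent.Lib.Lead.Fi23Out.T21
import Cfsg.Agent.Lib.Lead.Fi23Out.T23

/-! # The outer automorphism group of Fi₂₃: the element number 24 (generated) -/

set_option autoImplicit false
set_option maxRecDepth 100000

namespace Cfsg.Agent.Fi23Out

open Cfsg.Agent.PF Cfsg.Agent.Lib.Helper6 Cfsg.Agent.Lib.Helper6.TC
open Cfsg.Agent.PL (Acts evalF)

/-- the table agrees with the word -/
theorem eq24 : ∀ q < 31671, f24 q = wordR W24 q :=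
  eq_of_chunks (f := f24) (g := wordR W24) [(0, 7918), (7918, 7918), (15836, 7918), (23754, 7917)] (by decide) (by
    intro c hc
    simp only [List.mem_cons, List.not_mem_nil, or_false] at hc
    rcases hc with rfl | rfl | rfl | rfl
    · exact eq24_0
    · exact eq24_1
    · exact eq24_2
    · exact eq24_3
  )

theorem rep24 : Rep P f24 :=
  (rep_wordR (l := W24) (Reps.cons rep19 (Reps.cons rep19 (Reps.cons rep18 (Reps.cons rep20 (Reps.cons rep21 (Reps.cons rep20 (Reps.cons rep14 (Reps.cons rep18 (Reps.cons rep21 (Reps.cons rep17 (Reps.cons rep20 (Reps.cons rep11 (Reps.cons rep19 (Reps.cons rep11 (Reps.cons rep17 (Reps.cons rep20 (Reps.cons rep3 (Reps.cons rep23 (Reps.cons rep16 (Reps.cons rep4 (Reps.cons rep19 (Reps.cons rep10 (Reps.cons rep14 (Reps.cons rep19 (Reps.cons rep0 (Reps.cons rep7 (Reps.cons rep20 (Reps.cons rep5 (Reps.nil P)))))))))))))))))))))))))))))).congr eq24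

end Cfsg.Agent.Fi23Out
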