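import Cfsg.Agent.Lib.Lead.Fi23Out.LevAD
import Cfsg.Agent.Lib.Lead.Fi23Out.T0
import Cfsg.Agent.Lib.Lead.Fi23Out.T1
import Cfsg.Agent.Lib.Lead.Fi23Out.T2
import Cfsg.Agent.Lib.Lead.Fi23Out.T3
import Cfsg.Agent.Lib.Lead.Fi23Out.T4
import Cfsg.Agent.Lib.Lead.Fi23Out.T5
import Cfsg.Agent.Lib.Lead.Fi23Out.T6
import Cfsg.Agent.Lib.Lead.Fi23Out.T7
import Cfsg.Agent.Lib.Lead.Fi23Out.T8
import Cfsg.Agent.Lib.Lead.Fi23Out.T9
import Cfsg.Agent.Lib.Lead.Fi23Out.T10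
import Cfsg.Agent.Lib.Lead.Fi23Out.T11
import Cfsg.Agent.Lib.Lead.Fi23Out.T12
import Cfsg.Agent.Lib.Lead.Fi23Out.T13
import Cfsg.Agent.Lib.Lead.Fi23Out.T14
import Cfsg.Agent.Lib.Lead.Fi23Out.T15
import Cfsg.Agent.Lib.Lead.Fi23Out.T16
import Cfsg.Agent.Lib.Lead.Fi23Out.T17
import Cfsg.Agent.Lib.Lead.Fi23Out.T18
import Cfsg.Agent.Lib.Lead.Fi23Out.T19
import Cfsg.Agent.Lib.Lead.Fi23Out.T20
import Cfsg.Agent.Lib.Lead.Fi23Out.T21
import Cfsg.Agent.Lib.Lead.Fi23Out.T22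
import Cfsg.Agent.Lib.Lead.Fi23Out.T23
import Cfsg.Agent.Lib.Lead.Fi23Out.T24

/-! # The outer automorphism group of Fi₂₃: the generators of the trees of the chain `A` are elements of the group (generated) -/

set_option autoImplicit false
set_option maxRecDepth 100000

namespace Cfsg.Agent.Fi23Out

open Cfsg.Agent.PF Cfsg.Agent.Lib.Helper6 Cfsg.Agent.Lib.Helper6.TC
open Cfsg.Agent.PL (Acts evalF)

theorem repsA0 : Reps P LA0.2.1 :=
  (Reps.cons rep0 (Reps.cons rep1 (Reps.cons rep2 (Reps.cons rep3 (Reps.cons rep4 (Reps.cons rep5 (Reps.cons rep6 (Reps.cons rep7 (Reps.cons rep8 (Reps.cons rep9 (Reps.cons rep10 (Reps.cons rep11 (Reps.cons rep12 (Reps.cons rep13 (Reps.cons rep14 (Reps.cons rep15 (Reps.cons rep16 (Reps.cons rep17 (Reps.cons rep18 (Reps.cons rep19 (Reps.cons rep20 (Reps.cons rep21 (Reps.cons rep22 (Reps.cons rep23 (Reps.cons rep24 (Reps.nil P))))))))))))))))))))))))))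

theorem repsA1 : Reps P LA1.2.1 :=
  (Reps.cons rep11 (Reps.cons rep12 (Reps.cons rep13 (Reps.cons rep14 (Reps.cons rep15 (Reps.cons rep16 (Reps.cons rep17 (Reps.cons rep18 (Reps.cons rep19 (Reps.cons rep20 (Reps.cons rep21 (Reps.cons rep22 (Reps.cons rep23 (Reps.cons rep24 (Reps.nil P)))))))))))))))

theorem repsA2 : Reps P LA2.2.1 :=
  (Reps.cons rep14 (Reps.cons rep16 (Reps.cons rep17 (Reps.cons rep18 (Reps.cons rep19 (Reps.cons rep20 (Reps.cons rep21 (Reps.cons rep22 (Reps.cons rep23 (Reps.cons rep24 (Reps.nil P)))))))))))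

theorem repsA3 : Reps P LA3.2.1 :=
  (Reps.cons rep18 (Reps.cons rep19 (Reps.cons rep20 (Reps.cons rep21 (Reps.cons rep22 (Reps.cons rep23 (Reps.cons rep24 (Reps.nil P))))))))

theorem repsA4 : Reps P LA4.2.1 :=
  (Reps.cons rep22 (Reps.cons rep23 (Reps.cons rep24 (Reps.nil P))))

theorem hA : ∀ L ∈ LA0 :: LsA, ∀ c ∈ L.2.1, Rep P c := by
  intro L hL
  simp only [LsA, List.mem_cons, List.not_mem_nil, or_false] at hL
  rcases hL with rfl | rfl | rfl | rfl | rfl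
  · exact repsA0
  · exact repsA1
  · exact repsA2
  · exact repsA3
  · exact repsA4

end Cfsg.Agent.Fi23Out
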