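import Cfsg.Agent.Lib.Lead.Fi23Out.C25
import Cfsg.Agent.Lib.Lead.Fi23Out.T0
import Cfsg.Agent.Lib.Lead.Fi23Out.T3
import Cfsg.Agent.Lib.Lead.Fi23Out.T10
import Cfsg.Agent.Lib.Lead.Fi23Out.T11
import Cfsg.Agent.Lib.Lead.Fi23Out.T12
import Cfsg.Agent.Lib.Lead.Fi23Out.T16
import Cfsg.Agent.Lib.Lead.Fi23Out.T18
import Cfsg.Agent.Lib.Lead.Fi23Out.T19
import Cfsg.Agent.Lib.Lead.Fi23Out.T20
import Cfsg.Agent.Lib.Lead.Fi23Out.T21
import Cfsg.Agent.Lib.Lead.Fi23Out.T22
import Cfsg.Agent.Lib.Lead.Fi23Out.T23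
import Cfsg.Agent.Lib.Lead.Fi23Out.T24

/-! # The outer automorphism group of Fi₂₃: the element number 25 (generated) -/

set_option autoImplicit false
set_option maxRecDepth 100000

namespace Cfsg.Agent.Fi23Out

open Cfsg.Agent.PF Cfsg.Agent.Lib.Helper6 Cfsg.Agent.Lib.Helper6.TC
open Cfsg.Agent.PL (Acts evalF)

/-- the table agrees with the word -/
theorem eq25 : ∀ q < 31671, f25 q = wordR W25 q :=
  eq_of_chunks (f := f25) (g := wordR W25) [(0, 10557), (10557, 10557), (21114, 10557)] (by decide) (by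
    intro c hc
    simp only [List.mem_cons, List.not_mem_nil, or_false] at hc
    rcases hc with rfl | rfl | rfl
    · exact eq25_0
    · exact eq25_1
    · exact eq25_2
  )

theorem rep25 : Rep P f25 :=
  (rep_wordR (l := W25) (Reps.cons rep22 (Reps.cons rep22 (Reps.cons rep23 (Reps.cons rep24 (Reps.cons rep18 (Reps.cons rep20 (Reps.cons rep19 (Reps.cons rep18 (Reps.cons rep21 (Reps.cons rep22 (Reps.cons rep22 (Reps.cons rep16 (Reps.cons rep18 (Reps.cons rep19 (Reps.cons rep18 (Reps.cons rep20 (Reps.cons rep11 (Reps.cons rep20 (Reps.cons rep21 (Reps.cons rep21 (Reps.cons rep12 (Reps.cons rep0 (Reps.cons rep10 (Reps.cons rep16 (Reps.cons rep3 (Reps.cons rep12 (Reps.nil P)))))))))))))))))))))))))))).congr eq25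

end Cfsg.Agent.Fi23Out
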