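import Cfsg.Agent.Lib.Lead.Fi23Out.C26
import Cfsg.Agent.Lib.Lead.Fi23Out.T1
import Cfsg.Agent.Lib.Lead.Fi23Out.T2
import Cfsg.Agent.Lib.Lead.Fi23Out.T5
import Cfsg.Agent.Lib.Lead.Fi23Out.T7
import Cfsg.Agent.Lib.Lead.Fi23Out.T10
import Cfsg.Agent.Lib.Lead.Fi23Out.T11
import Cfsg.Agent.Lib.Lead.Fi23Out.T21
import Cfsg.Agent.Lib.Lead.Fi23Out.T23
import Cfsg.Agent.Lib.Lead.Fi23Out.T25

/-! # The outer automorphism group of Fi₂₃: the element number 26 (generated) -/

set_option autoImplicit false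
set_option maxRecDepth 100000

namespace Cfsg.Agent.Fi23Out

open Cfsg.Agent.PF Cfsg.Agent.Lib.Helper6 Cfsg.Agent.Lib.Helper6.TC
open Cfsg.Agent.PL (Acts evalF)

/-- the table agrees with the word -/
theorem eq26 : ∀ q < 31671, f26 q = wordR W26 q :=
  eq_of_chunks (f := f26) (g := wordR W26) [(0, 15836), (15836, 15835)] (by decide) (by
    intro c hc
    simp only [List.mem_cons, List.not_mem_nil, or_false] at hc
    rcases hc with rfl | rfl
    · exact eq26_0
    · exact eq26_1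
  )

theorem rep26 : Rep P f26 :=
  (rep_wordR (l := W26) (Reps.cons rep21 (Reps.cons rep25 (Reps.cons rep7 (Reps.cons rep10 (Reps.cons rep1 (Reps.cons rep2 (Reps.cons rep2 (Reps.cons rep11 (Reps.cons rep5 (Reps.cons rep23 (Reps.nil P)))))))))))).congr eq26

end Cfsg.Agent.Fi23Out
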