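import Cfsg.Agent.Lib.Lead.Fi23Out.C28
import Cfsg.Agent.Lib.Lead.Fi23Out.T0
import Cfsg.Agent.Lib.Lead.Fi23Out.T5
import Cfsg.Agent.Lib.Lead.Fi23Out.T9
import Cfsg.Agent.Lib.Lead.Fi23Out.T12
import Cfsg.Agent.Lib.Lead.Fi23Out.T13
import Cfsg.Agent.Lib.Lead.Fi23Out.T16
import Cfsg.Agent.Lib.Lead.Fi23Out.T20
import Cfsg.Agent.Lib.Lead.Fi23Out.T23
import Cfsg.Agent.Lib.Lead.Fi23Out.T24
import Cfsg.Agent.Lib.Lead.Fi23Out.T25
import Cfsg.Agent.Lib.Lead.Fi23Out.T26
import Cfsg.Agent.Lib.Lead.Fi23Out.T27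

/-! # The outer automorphism group of Fi₂₃: the element number 28 (generated) -/

set_option autoImplicit false
set_option maxRecDepth 100000

namespace Cfsg.Agent.Fi23Out

open Cfsg.Agent.PF Cfsg.Agent.Lib.Helper6 Cfsg.Agent.Lib.Helper6.TC
open Cfsg.Agent.PL (Acts evalF)

/-- the table agrees with the word -/
theorem eq28 : ∀ q < 31671, f28 q = wordR W28 q :=
  eq_of_chunks (f := f28) (g := wordR W28) [(0, 10557), (10557, 10557), (21114, 10557)] (by decide) (by
    intro c hc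
    simp only [List.mem_cons, List.not_mem_nil, or_false] at hc
    rcases hc with rfl | rfl | rfl
    · exact eq28_0
    · exact eq28_1
    · exact eq28_2
  )

theorem rep28 : Rep P f28 :=
  (rep_wordR (l := W28) (Reps.cons rep27 (Reps.cons rep27 (Reps.cons rep27 (Reps.cons rep26 (Reps.cons rep27 (Reps.cons rep27 (Reps.cons rep27 (Reps.cons rep26 (Reps.cons rep27 (Reps.cons rep26 (Reps.cons rep27 (Reps.cons rep16 (Reps.cons rep0 (Reps.cons rep9 (Reps.cons rep24 (Reps.cons rep5 (Reps.cons rep13 (Reps.cons rep20 (Reps.cons rep12 (Reps.cons rep25 (Reps.cons rep23 (Reps.nil P))))))))))))))))))))))).congr eq28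

end Cfsg.Agent.Fi23Out
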