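import Cfsg.Agent.Lib.Lead.Fi23Out.C29
import Cfsg.Agent.Lib.Lead.Fi23Out.T8
import Cfsg.Agent.Lib.Lead.Fi23Out.T11
import Cfsg.Agent.Lib.Lead.Fi23Out.T12
import Cfsg.Agent.Lib.Lead.Fi23Out.T14
import Cfsg.Agent.Lib.Lead.Fi23Out.T16
import Cfsg.Agent.Lib.Lead.Fi23Out.T17
import Cfsg.Agent.Lib.Lead.Fi23Out.T18
import Cfsg.Agent.Lib.Lead.Fi23Out.T26
import Cfsg.Agent.Lib.Lead.Fi23Out.T27
import Cfsg.Agent.Lib.Lead.Fi23Out.T28

/-! # The outer automorphism group of Fi₂₃: the element number 29 (generated) -/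

set_option autoImplicit false
set_option maxRecDepth 100000

namespace Cfsg.Agent.Fi23Out

open Cfsg.Agent.PF Cfsg.Agent.Lib.Helper6 Cfsg.Agent.Lib.Helper6.TC
open Cfsg.Agent.PL (Acts evalF)

/-- the table agrees with the word -/
theorem eq29 : ∀ q < 31671, f29 q = wordR W29 q :=
  eq_of_chunks (f := f29) (g := wordR W29) [(0, 10557), (10557, 10557), (21114, 10557)] (by decide) (by
    intro c hc
    simp only [List.mem_cons, List.not_mem_nil, or_false] at hc
    rcases hc with rfl | rfl | rfl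
    · exact eq29_0
    · exact eq29_1
    · exact eq29_2
  )

theorem rep29 : Rep P f29 :=
  (rep_wordR (l := W29) (Reps.cons rep26 (Reps.cons rep27 (Reps.cons rep28 (Reps.cons rep28 (Reps.cons rep27 (Reps.cons rep26 (Reps.cons rep28 (Reps.cons rep26 (Reps.cons rep27 (Reps.cons rep28 (Reps.cons rep27 (Reps.cons rep18 (Reps.cons rep12 (Reps.cons rep18 (Reps.cons rep16 (Reps.cons rep11 (Reps.cons rep17 (Reps.cons rep14 (Reps.cons rep16 (Reps.cons rep8 (Reps.nil P)))))))))))))))))))))).congr eq29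

end Cfsg.Agent.Fi23Out
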