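import Cfsg.Agent.Lib.Lead.Fi23Out.C30
import Cfsg.Agent.Lib.Lead.Fi23Out.T0
import Cfsg.Agent.Lib.Lead.Fi23Out.T2
import Cfsg.Agent.Lib.Lead.Fi23Out.T6
import Cfsg.Agent.Lib.Lead.Fi23Out.T10
import Cfsg.Agent.Lib.Lead.Fi23Out.T11
import Cfsg.Agent.Lib.Lead.Fi23Out.T14
import Cfsg.Agent.Lib.Lead.Fi23Out.T16
import Cfsg.Agent.Lib.Lead.Fi23Out.T26
import Cfsg.Agent.Lib.Lead.Fi23Out.T27
import Cfsg.Agent.Lib.Lead.Fi23Out.T28
import Cfsg.Agent.Lib.Lead.Fi23Out.T29

/-! # The outer automorphism group of Fi₂₃: the element number 30 (generated) -/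

set_option autoImplicit false
set_option maxRecDepth 100000

namespace Cfsg.Agent.Fi23Out

open Cfsg.Agent.PF Cfsg.Agent.Lib.Helper6 Cfsg.Agent.Lib.Helper6.TC
open Cfsg.Agent.PL (Acts evalF)

/-- the table agrees with the word -/
theorem eq30 : ∀ q < 31671, f30 q = wordR W30 q :=
  eq_of_chunks (f := f30) (g := wordR W30) [(0, 7918), (7918, 7918), (15836, 7918), (23754, 7917)] (by decide) (by
    intro c hc
    simp only [List.mem_cons, List.not_mem_nil, or_false] at hc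
    rcases hc with rfl | rfl | rfl | rfl
    · exact eq30_0
    · exact eq30_1
    · exact eq30_2
    · exact eq30_3
  )

theorem rep30 : Rep P f30 :=
  (rep_wordR (l := W30) (Reps.cons rep28 (Reps.cons rep29 (Reps.cons rep29 (Reps.cons rep29 (Reps.cons rep29 (Reps.cons rep29 (Reps.cons rep28 (Reps.cons rep29 (Reps.cons rep29 (Reps.cons rep28 (Reps.cons rep28 (Reps.cons rep29 (Reps.cons rep29 (Reps.cons rep26 (Reps.cons rep27 (Reps.cons rep27 (Reps.cons rep26 (Reps.cons rep29 (Reps.cons rep29 (Reps.cons rep27 (Reps.cons rep28 (Reps.cons rep16 (Reps.cons rep2 (Reps.cons rep6 (Reps.cons rep27 (Reps.cons rep27 (Reps.cons rep0 (Reps.cons rep11 (Reps.cons rep14 (Reps.cons rep29 (Reps.cons rep10 (Reps.nil P))))))))))))))))))))))))))))))))).congr eq30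

end Cfsg.Agent.Fi23Out
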