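import Cfsg.Agent.Lib.Lead.Fi23Out.C31
import Cfsg.Agent.Lib.Lead.Fi23Out.T5
import Cfsg.Agent.Lib.Lead.Fi23Out.T13
import Cfsg.Agent.Lib.Lead.Fi23Out.T16
import Cfsg.Agent.Lib.Lead.Fi23Out.T17
import Cfsg.Agent.Lib.Lead.Fi23Out.T21
import Cfsg.Agent.Lib.Lead.Fi23Out.T22
import Cfsg.Agent.Lib.Lead.Fi23Out.T26
import Cfsg.Agent.Lib.Lead.Fi23Out.T27
import Cfsg.Agent.Lib.Lead.Fi23Out.T28
import Cfsg.Agent.Lib.Lead.Fi23Out.T29
import Cfsg.Agent.Lib.Lead.Fi23Out.T30

/-! # The outer automorphism group of Fi₂₃: the element number 31 (generated) -/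

set_option autoImplicit false
set_option maxRecDepth 100000

namespace Cfsg.Agent.Fi23Out

open Cfsg.Agent.PF Cfsg.Agent.Lib.Helper6 Cfsg.Agent.Lib.Helper6.TC
open Cfsg.Agent.PL (Acts evalF)

/-- the table agrees with the word -/
theorem eq31 : ∀ q < 31671, f31 q = wordR W31 q :=
  eq_of_chunks (f := f31) (g := wordR W31) [(0, 10557), (10557, 10557), (21114, 10557)] (by decide) (by
    intro c hc
    simp only [List.mem_cons, List.not_mem_nil, or_false] at hc
    rcases hc with rfl | rfl | rfl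
    · exact eq31_0
    · exact eq31_1
    · exact eq31_2
  )

theorem rep31 : Rep P f31 :=
  (rep_wordR (l := W31) (Reps.cons rep28 (Reps.cons rep28 (Reps.cons rep28 (Reps.cons rep30 (Reps.cons rep29 (Reps.cons rep29 (Reps.cons rep29 (Reps.cons rep29 (Reps.cons rep29 (Reps.cons rep29 (Reps.cons rep26 (Reps.cons rep26 (Reps.cons rep26 (Reps.cons rep29 (Reps.cons rep28 (Reps.cons rep29 (Reps.cons rep30 (Reps.cons rep16 (Reps.cons rep22 (Reps.cons rep27 (Reps.cons rep21 (Reps.cons rep13 (Reps.cons rep28 (Reps.cons rep28 (Reps.cons rep16 (Reps.cons rep5 (Reps.cons rep17 (Reps.nil P))))))))))))))))))))))))))))).congr eq31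

end Cfsg.Agent.Fi23Out
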