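import Cfsg.Agent.Lib.Lead.Fi23Out.C32
import Cfsg.Agent.Lib.Lead.Fi23Out.T26
import Cfsg.Agent.Lib.Lead.Fi23Out.T27
import Cfsg.Agent.Lib.Lead.Fi23Out.T28
import Cfsg.Agent.Lib.Lead.Fi23Out.T29
import Cfsg.Agent.Lib.Lead.Fi23Out.T30

/-! # The outer automorphism group of Fi₂₃: the element number 32 (generated) -/

set_option autoImplicit false
set_option maxRecDepth 100000

namespace Cfsg.Agent.Fi23Out

open Cfsg.Agent.PF Cfsg.Agent.Lib.Helper6 Cfsg.Agent.Lib.Helper6.TC
open Cfsg.Agent.PL (Acts evalF)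

/-- the table agrees with the word -/
theorem eq32 : ∀ q < 31671, f32 q = wordR W32 q :=
  eq_of_chunks (f := f32) (g := wordR W32) [(0, 10557), (10557, 10557), (21114, 10557)] (by decide) (by
    intro c hc
    simp only [List.mem_cons, List.not_mem_nil, or_false] at hc
    rcases hc with rfl | rfl | rfl
    · exact eq32_0
    · exact eq32_1
    · exact eq32_2
  )

theorem rep32 : Rep P f32 :=
  (rep_wordR (l := W32) (Reps.cons rep28 (Reps.cons rep28 (Reps.cons rep28 (Reps.cons rep28 (Reps.cons rep30 (Reps.cons rep29 (Reps.cons rep28 (Reps.cons rep26 (Reps.cons rep27 (Reps.cons rep30 (Reps.cons rep28 (Reps.cons rep27 (Reps.cons rep28 (Reps.cons rep26 (Reps.cons rep26 (Reps.cons rep27 (Reps.cons rep28 (Reps.cons rep27 (Reps.cons rep27 (Reps.cons rep30 (Reps.nil P)))))))))))))))))))))).congr eq32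

end Cfsg.Agent.Fi23Out
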