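import Cfsg.Agent.Lib.Lead.Fi23Out.C33
import Cfsg.Agent.Lib.Lead.Fi23Out.T4
import Cfsg.Agent.Lib.Lead.Fi23Out.T7
import Cfsg.Agent.Lib.Lead.Fi23Out.T11
import Cfsg.Agent.Lib.Lead.Fi23Out.T20
import Cfsg.Agent.Lib.Lead.Fi23Out.T22
import Cfsg.Agent.Lib.Lead.Fi23Out.T23
import Cfsg.Agent.Lib.Lead.Fi23Out.T26
import Cfsg.Agent.Lib.Lead.Fi23Out.T28
import Cfsg.Agent.Lib.Lead.Fi23Out.T29
import Cfsg.Agent.Lib.Lead.Fi23Out.T30
import Cfsg.Agent.Lib.Lead.Fi23Out.T31
import Cfsg.Agent.Lib.Lead.Fi23Out.T32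

/-! # The outer automorphism group of Fi₂₃: the element number 33 (generated) -/

set_option autoImplicit false
set_option maxRecDepth 100000

namespace Cfsg.Agent.Fi23Out

open Cfsg.Agent.PF Cfsg.Agent.Lib.Helper6 Cfsg.Agent.Lib.Helper6.TC
open Cfsg.Agent.PL (Acts evalF)

/-- the table agrees with the word -/
theorem eq33 : ∀ q < 31671, f33 q = wordR W33 q :=
  eq_of_chunks (f := f33) (g := wordR W33) [(0, 7918), (7918, 7918), (15836, 7918), (23754, 7917)] (by decide) (by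
    intro c hc
    simp only [List.mem_cons, List.not_mem_nil, or_false] at hc
    rcases hc with rfl | rfl | rfl | rfl
    · exact eq33_0
    · exact eq33_1
    · exact eq33_2
    · exact eq33_3
  )

theorem rep33 : Rep P f33 :=
  (rep_wordR (l := W33) (Reps.cons rep30 (Reps.cons rep32 (Reps.cons rep31 (Reps.cons rep31 (Reps.cons rep30 (Reps.cons rep32 (Reps.cons rep31 (Reps.cons rep28 (Reps.cons rep29 (Reps.cons rep32 (Reps.cons rep30 (Reps.cons rep32 (Reps.cons rep32 (Reps.cons rep26 (Reps.cons rep26 (Reps.cons rep28 (Reps.cons rep31 (Reps.cons rep28 (Reps.cons rep32 (Reps.cons rep7 (Reps.cons rep32 (Reps.cons rep4 (Reps.cons rep20 (Reps.cons rep32 (Reps.cons rep11 (Reps.cons rep28 (Reps.cons rep26 (Reps.cons rep23 (Reps.cons rep22 (Reps.nil P))))))))))))))))))))))))))))))).congr eq33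

end Cfsg.Agent.Fi23Out
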