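import Cfsg.Agent.Lib.Lead.Fi23Out.C35
import Cfsg.Agent.Lib.Lead.Fi23Out.T12
import Cfsg.Agent.Lib.Lead.Fi23Out.T18
import Cfsg.Agent.Lib.Lead.Fi23Out.T22
import Cfsg.Agent.Lib.Lead.Fi23Out.T23
import Cfsg.Agent.Lib.Lead.Fi23Out.T26
import Cfsg.Agent.Lib.Lead.Fi23Out.T28
import Cfsg.Agent.Lib.Lead.Fi23Out.T29
import Cfsg.Agent.Lib.Lead.Fi23Out.T30
import Cfsg.Agent.Lib.Lead.Fi23Out.T31
import Cfsg.Agent.Lib.Lead.Fi23Out.T32
import Cfsg.Agent.Lib.Lead.Fi23Out.T33
import Cfsg.Agent.Lib.Lead.Fi23Out.T34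

/-! # The outer automorphism group of Fi₂₃: the element number 35 (generated) -/

set_option autoImplicit false
set_option maxRecDepth 100000

namespace Cfsg.Agent.Fi23Out

open Cfsg.Agent.PF Cfsg.Agent.Lib.Helper6 Cfsg.Agent.Lib.Helper6.TC
open Cfsg.Agent.PL (Acts evalF)

/-- the table agrees with the word -/
theorem eq35 : ∀ q < 31671, f35 q = wordR W35 q :=
  eq_of_chunks (f := f35) (g := wordR W35) [(0, 10557), (10557, 10557), (21114, 10557)] (by decide) (by
    intro c hc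
    simp only [List.mem_cons, List.not_mem_nil, or_false] at hc
    rcases hc with rfl | rfl | rfl
    · exact eq35_0
    · exact eq35_1
    · exact eq35_2
  )

theorem rep35 : Rep P f35 :=
  (rep_wordR (l := W35) (Reps.cons rep34 (Reps.cons rep32 (Reps.cons rep31 (Reps.cons rep32 (Reps.cons rep34 (Reps.cons rep31 (Reps.cons rep29 (Reps.cons rep28 (Reps.cons rep32 (Reps.cons rep30 (Reps.cons rep26 (Reps.cons rep29 (Reps.cons rep31 (Reps.cons rep33 (Reps.cons rep26 (Reps.cons rep18 (Reps.cons rep23 (Reps.cons rep12 (Reps.cons rep22 (Reps.cons rep32 (Reps.cons rep32 (Reps.cons rep22 (Reps.cons rep29 (Reps.cons rep29 (Reps.cons rep22 (Reps.nil P))))))))))))))))))))))))))).congr eq35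

end Cfsg.Agent.Fi23Out
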