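import Cfsg.Agent.Lib.Lead.Fi23Out.C36
import Cfsg.Agent.Lib.Lead.Fi23Out.T3
import Cfsg.Agent.Lib.Lead.Fi23Out.T5
import Cfsg.Agent.Lib.Lead.Fi23Out.T11
import Cfsg.Agent.Lib.Lead.Fi23Out.T12
import Cfsg.Agent.Lib.Lead.Fi23Out.T14
import Cfsg.Agent.Lib.Lead.Fi23Out.T15
import Cfsg.Agent.Lib.Lead.Fi23Out.T16
import Cfsg.Agent.Lib.Lead.Fi23Out.T18
import Cfsg.Agent.Lib.Lead.Fi23Out.T19
import Cfsg.Agent.Lib.Lead.Fi23Out.T20
import Cfsg.Agent.Lib.Lead.Fi23Out.T21
import Cfsg.Agent.Lib.Lead.Fi23Out.T22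
import Cfsg.Agent.Lib.Lead.Fi23Out.T23
import Cfsg.Agent.Lib.Lead.Fi23Out.T24

/-! # The outer automorphism group of Fi₂₃: the element number 36 (generated) -/

set_option autoImplicit false
set_option maxRecDepth 100000

namespace Cfsg.Agent.Fi23Out

open Cfsg.Agent.PF Cfsg.Agent.Lib.Helper6 Cfsg.Agent.Lib.Helper6.TC
open Cfsg.Agent.PL (Acts evalF)

/-- the table agrees with the word -/
theorem eq36 : ∀ q < 31671, f36 q = wordR W36 q :=
  eq_of_chunks (f := f36) (g := wordR W36) [(0, 10557), (10557, 10557), (21114, 10557)] (by decide) (by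
    intro c hc
    simp only [List.mem_cons, List.not_mem_nil, or_false] at hc
    rcases hc with rfl | rfl | rfl
    · exact eq36_0
    · exact eq36_1
    · exact eq36_2
  )

theorem rep36 : Rep P f36 :=
  (rep_wordR (l := W36) (Reps.cons rep22 (Reps.cons rep22 (Reps.cons rep23 (Reps.cons rep23 (Reps.cons rep18 (Reps.cons rep24 (Reps.cons rep21 (Reps.cons rep21 (Reps.cons rep19 (Reps.cons rep22 (Reps.cons rep14 (Reps.cons rep20 (Reps.cons rep22 (Reps.cons rep23 (Reps.cons rep16 (Reps.cons rep11 (Reps.cons rep16 (Reps.cons rep15 (Reps.cons rep11 (Reps.cons rep14 (Reps.cons rep3 (Reps.cons rep12 (Reps.cons rep16 (Reps.cons rep5 (Reps.nil P)))))))))))))))))))))))))).congr eq36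

end Cfsg.Agent.Fi23Out
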