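import Cfsg.Agent.Lib.Lead.Fi23Out.T10
import Cfsg.Agent.Lib.Lead.Fi23Out.T25
import Cfsg.Agent.Lib.Lead.Fi23Out.T36

/-! # The outer automorphism group of Fi₂₃: the elements `x`, `y`, `w` (generated) -/

set_option autoImplicit false
set_option maxRecDepth 100000

namespace Cfsg.Agent.Fi23Out

open Cfsg.Agent.PF Cfsg.Agent.Lib.Helper6 Cfsg.Agent.Lib.Helper6.TC
open Cfsg.Agent.PL (Acts evalF)

/-- the element `x` of order 17 -/
noncomputable def x : Equiv.Perm (Fin 31671) := Classical.choose rep10
/-- the element `y` normalising `⟨x⟩` -/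
noncomputable def y : Equiv.Perm (Fin 31671) := Classical.choose rep25
/-- the element `w` normalising `⟨y⟩` -/
noncomputable def w : Equiv.Perm (Fin 31671) := Classical.choose rep36

theorem hx : x ∈ P := (Classical.choose_spec rep10).1
theorem hy : y ∈ P := (Classical.choose_spec rep25).1
theorem hw : w ∈ P := (Classical.choose_spec rep36).1
theorem ax : Acts x f10 := (Classical.choose_spec rep10).2
theorem ay : Acts y f25 := (Classical.choose_spec rep25).2
theorem aw : Acts w f36 := (Classical.choose_spec rep36).2

/-- the subgroup generated by `x`, `y`, `w` -/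
noncomputable abbrev K : Subgroup (Equiv.Perm (Fin 31671)) := Subgroup.closure {x, y, w}

theorem repK10 : Rep K f10 := ⟨x, Subgroup.subset_closure (by simp), ax⟩
theorem repK25 : Rep K f25 := ⟨y, Subgroup.subset_closure (by simp), ay⟩
theorem repK36 : Rep K f36 := ⟨w, Subgroup.subset_closure (by simp), aw⟩

end Cfsg.Agent.Fi23Out
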