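import Cfsg.Agent.Lib.Lead.Fi23Out.C37
import Cfsg.Agent.Lib.Lead.Fi23Out.XYW

/-! # The outer automorphism group of Fi₂₃: the element number 37 (generated) -/

set_option autoImplicit false
set_option maxRecDepth 100000

namespace Cfsg.Agent.Fi23Out

open Cfsg.Agent.PF Cfsg.Agent.Lib.Helper6 Cfsg.Agent.Lib.Helper6.TC
open Cfsg.Agent.PL (Acts evalF)

/-- the table agrees with the word -/
theorem eq37 : ∀ q < 31671, f37 q = wordR W37 q :=
  eq_of_chunks (f := f37) (g := wordR W37) [(0, 15836), (15836, 15835)] (by decide) (by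
    intro c hc
    simp only [List.mem_cons, List.not_mem_nil, or_false] at hc
    rcases hc with rfl | rfl
    · exact eq37_0
    · exact eq37_1
  )

theorem rep37 : Rep K f37 :=
  (rep_wordR (l := W37) (Reps.cons repK25 (Reps.cons repK25 (Reps.cons repK25 (Reps.cons repK36 (Reps.cons repK10 (Reps.cons repK25 (Reps.cons repK36 (Reps.cons repK10 (Reps.cons repK36 (Reps.cons repK25 (Reps.cons repK25 (Reps.cons repK36 (Reps.cons repK10 (Reps.cons repK36 (Reps.cons repK10 (Reps.nil K))))))))))))))))).congr eq37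

end Cfsg.Agent.Fi23Out
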