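import Cfsg.Agent.Lib.Lead.Fi23Out.C38
import Cfsg.Agent.Lib.Lead.Fi23Out.T37
import Cfsg.Agent.Lib.Lead.Fi23Out.XYW

/-! # The outer automorphism group of Fi₂₃: the element number 38 (generated) -/

set_option autoImplicit false
set_option maxRecDepth 100000

namespace Cfsg.Agent.Fi23Out

open Cfsg.Agent.PF Cfsg.Agent.Lib.Helper6 Cfsg.Agent.Lib.Helper6.TC
open Cfsg.Agent.PL (Acts evalF)

/-- the table agrees with the word -/
theorem eq38 : ∀ q < 31671, f38 q = wordR W38 q :=
  eq_of_chunks (f := f38) (g := wordR W38) [(0, 15836), (15836, 15835)] (by decide) (by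
    intro c hc
    simp only [List.mem_cons, List.not_mem_nil, or_false] at hc
    rcases hc with rfl | rfl
    · exact eq38_0
    · exact eq38_1
  )

theorem rep38 : Rep K f38 :=
  (rep_wordR (l := W38) (Reps.cons repK10 (Reps.cons repK10 (Reps.cons repK25 (Reps.cons rep37 (Reps.cons repK10 (Reps.cons rep37 (Reps.cons rep37 (Reps.cons repK10 (Reps.cons repK10 (Reps.cons repK10 (Reps.cons repK10 (Reps.cons rep37 (Reps.cons repK25 (Reps.cons rep37 (Reps.cons repK10 (Reps.cons repK25 (Reps.cons rep37 (Reps.nil K))))))))))))))))))).congr eq38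

end Cfsg.Agent.Fi23Out
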