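import Cfsg.Agent.Lib.Lead.Fi23Out.C39
import Cfsg.Agent.Lib.Lead.Fi23Out.T37
import Cfsg.Agent.Lib.Lead.Fi23Out.T38
import Cfsg.Agent.Lib.Lead.Fi23Out.XYW

/-! # The outer automorphism group of Fi₂₃: the element number 39 (generated) -/

set_option autoImplicit false
set_option maxRecDepth 100000

namespace Cfsg.Agent.Fi23Out

open Cfsg.Agent.PF Cfsg.Agent.Lib.Helper6 Cfsg.Agent.Lib.Helper6.TC
open Cfsg.Agent.PL (Acts evalF)

/-- the table agrees with the word -/
theorem eq39 : ∀ q < 31671, f39 q = wordR W39 q :=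
  eq_of_chunks (f := f39) (g := wordR W39) [(0, 7918), (7918, 7918), (15836, 7918), (23754, 7917)] (by decide) (by
    intro c hc
    simp only [List.mem_cons, List.not_mem_nil, or_false] at hc
    rcases hc with rfl | rfl | rfl | rfl
    · exact eq39_0
    · exact eq39_1
    · exact eq39_2
    · exact eq39_3
  )

theorem rep39 : Rep K f39 :=
  (rep_wordR (l := W39) (Reps.cons rep37 (Reps.cons rep37 (Reps.cons rep37 (Reps.cons rep38 (Reps.cons rep38 (Reps.cons rep37 (Reps.cons rep38 (Reps.cons rep37 (Reps.cons rep38 (Reps.cons rep37 (Reps.cons rep38 (Reps.cons repK10 (Reps.cons repK36 (Reps.cons repK36 (Reps.cons rep37 (Reps.cons repK36 (Reps.cons rep38 (Reps.cons rep37 (Reps.cons rep38 (Reps.cons repK25 (Reps.cons repK36 (Reps.cons repK25 (Reps.cons repK25 (Reps.cons rep37 (Reps.cons repK36 (Reps.cons repK10 (Reps.cons rep37 (Reps.cons rep38 (Reps.nil K)))))))))))))))))))))))))))))).congr eq39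

end Cfsg.Agent.Fi23Out
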