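import Cfsg.Agent.Lib.Lead.Fi23Out.C40
import Cfsg.Agent.Lib.Lead.Fi23Out.T37
import Cfsg.Agent.Lib.Lead.Fi23Out.T38
import Cfsg.Agent.Lib.Lead.Fi23Out.T39
import Cfsg.Agent.Lib.Lead.Fi23Out.XYW

/-! # The outer automorphism group of Fi₂₃: the element number 40 (generated) -/

set_option autoImplicit false
set_option maxRecDepth 100000

namespace Cfsg.Agent.Fi23Out

open Cfsg.Agent.PF Cfsg.Agent.Lib.Helper6 Cfsg.Agent.Lib.Helper6.TC
open Cfsg.Agent.PL (Acts evalF)

/-- the table agrees with the word -/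
theorem eq40 : ∀ q < 31671, f40 q = wordR W40 q :=
  eq_of_chunks (f := f40) (g := wordR W40) [(0, 10557), (10557, 10557), (21114, 10557)] (by decide) (by
    intro c hc
    simp only [List.mem_cons, List.not_mem_nil, or_false] at hc
    rcases hc with rfl | rfl | rfl
    · exact eq40_0
    · exact eq40_1
    · exact eq40_2
  )

theorem rep40 : Rep K f40 :=
  (rep_wordR (l := W40) (Reps.cons rep37 (Reps.cons rep37 (Reps.cons rep37 (Reps.cons rep37 (Reps.cons rep38 (Reps.cons rep39 (Reps.cons rep39 (Reps.cons rep38 (Reps.cons rep37 (Reps.cons rep38 (Reps.cons rep37 (Reps.cons repK10 (Reps.cons repK25 (Reps.cons rep37 (Reps.cons rep39 (Reps.cons rep39 (Reps.cons repK10 (Reps.cons repK25 (Reps.cons rep39 (Reps.cons rep39 (Reps.cons repK36 (Reps.cons repK10 (Reps.cons rep39 (Reps.cons repK36 (Reps.cons rep39 (Reps.cons rep39 (Reps.nil K)))))))))))))))))))))))))))).congr eq40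

end Cfsg.Agent.Fi23Out
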