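import Cfsg.Agent.Lib.Lead.Fi23Out.C41
import Cfsg.Agent.Lib.Lead.Fi23Out.T37
import Cfsg.Agent.Lib.Lead.Fi23Out.T38
import Cfsg.Agent.Lib.Lead.Fi23Out.T39
import Cfsg.Agent.Lib.Lead.Fi23Out.T40
import Cfsg.Agent.Lib.Lead.Fi23Out.XYW

/-! # The outer automorphism group of Fi₂₃: the element number 41 (generated) -/

set_option autoImplicit false
set_option maxRecDepth 100000

namespace Cfsg.Agent.Fi23Out

open Cfsg.Agent.PF Cfsg.Agent.Lib.Helper6 Cfsg.Agent.Lib.Helper6.TC
open Cfsg.Agent.PL (Acts evalF)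

/-- the table agrees with the word -/
theorem eq41 : ∀ q < 31671, f41 q = wordR W41 q :=
  eq_of_chunks (f := f41) (g := wordR W41) [(0, 6335), (6335, 6335), (12670, 6335), (19005, 6335), (25340, 6331)] (by decide) (by
    intro c hc
    simp only [List.mem_cons, List.not_mem_nil, or_false] at hc
    rcases hc with rfl | rfl | rfl | rfl | rfl
    · exact eq41_0
    · exact eq41_1
    · exact eq41_2
    · exact eq41_3
    · exact eq41_4
  )

theorem rep41 : Rep K f41 :=
  (rep_wordR (l := W41) (Reps.cons rep39 (Reps.cons rep39 (Reps.cons rep40 (Reps.cons rep39 (Reps.cons rep40 (Reps.cons rep39 (Reps.cons rep40 (Reps.cons rep40 (Reps.cons rep40 (Reps.cons rep40 (Reps.cons rep40 (Reps.cons rep40 (Reps.cons rep40 (Reps.cons rep39 (Reps.cons rep39 (Reps.cons rep38 (Reps.cons rep37 (Reps.cons rep40 (Reps.cons rep38 (Reps.cons rep39 (Reps.cons rep38 (Reps.cons rep37 (Reps.cons repK25 (Reps.cons repK36 (Reps.cons rep38 (Reps.cons rep37 (Reps.cons rep37 (Reps.cons rep37 (Reps.cons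 rep38 (Reps.cons rep40 (Reps.cons rep39 (Reps.cons repK25 (Reps.cons repK36 (Reps.cons repK36 (Reps.cons rep38 (Reps.cons rep37 (Reps.cons rep40 (Reps.nil K))))))))))))))))))))))))))))))))))))))).congr eq41

end Cfsg.Agent.Fi23Out
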