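import Cfsg.Agent.Lib.Lead.Fi23Out.C42
import Cfsg.Agent.Lib.Lead.Fi23Out.T37
import Cfsg.Agent.Lib.Lead.Fi23Out.T38
import Cfsg.Agent.Lib.Lead.Fi23Out.T39
import Cfsg.Agent.Lib.Lead.Fi23Out.T40
import Cfsg.Agent.Lib.Lead.Fi23Out.T41
import Cfsg.Agent.Lib.Lead.Fi23Out.XYW

/-! # The outer automorphism group of Fi₂₃: the element number 42 (generated) -/

set_option autoImplicit false
set_option maxRecDepth 100000

namespace Cfsg.Agent.Fi23Out

open Cfsg.Agent.PF Cfsg.Agent.Lib.Helper6 Cfsg.Agent.Lib.Helper6.TC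
open Cfsg.Agent.PL (Acts evalF)

/-- the table agrees with the word -/
theorem eq42 : ∀ q < 31671, f42 q = wordR W42 q :=
  eq_of_chunks (f := f42) (g := wordR W42) [(0, 7918), (7918, 7918), (15836, 7918), (23754, 7917)] (by decide) (by
    intro c hc
    simp only [List.mem_cons, List.not_mem_nil, or_false] at hc
    rcases hc with rfl | rfl | rfl | rfl
    · exact eq42_0
    · exact eq42_1
    · exact eq42_2
    · exact eq42_3
  )

theorem rep42 : Rep K f42 :=
  (rep_wordR (l := W42) (Reps.cons rep39 (Reps.cons rep40 (Reps.cons rep40 (Reps.cons rep39 (Reps.cons rep40 (Reps.cons rep41 (Reps.cons rep40 (Reps.cons rep41 (Reps.cons rep41 (Reps.cons rep39 (Reps.cons rep38 (Reps.cons rep39 (Reps.cons rep39 (Reps.cons rep38 (Reps.cons rep38 (Reps.cons rep37 (Reps.cons repK10 (Reps.cons repK36 (Reps.cons rep38 (Reps.cons repK36 (Reps.cons repK36 (Reps.cons rep40 (Reps.cons rep40 (Reps.cons repK10 (Reps.cons rep41 (Reps.cons rep37 (Reps.cons rep40 (Reps.cons rep40 (Reps.cons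 repK36 (Reps.cons rep39 (Reps.cons rep39 (Reps.cons repK25 (Reps.nil K)))))))))))))))))))))))))))))))))).congr eq42

end Cfsg.Agent.Fi23Out
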