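import Cfsg.Agent.Lib.Lead.Fi23Out.C43
import Cfsg.Agent.Lib.Lead.Fi23Out.T37
import Cfsg.Agent.Lib.Lead.Fi23Out.T38
import Cfsg.Agent.Lib.Lead.Fi23Out.T39
import Cfsg.Agent.Lib.Lead.Fi23Out.T40
import Cfsg.Agent.Lib.Lead.Fi23Out.T41
import Cfsg.Agent.Lib.Lead.Fi23Out.T42
import Cfsg.Agent.Lib.Lead.Fi23Out.XYW

/-! # The outer automorphism group of Fi₂₃: the element number 43 (generated) -/

set_option autoImplicit false
set_option maxRecDepth 100000

namespace Cfsg.Agent.Fi23Out

open Cfsg.Agent.PF Cfsg.Agent.Lib.Helper6 Cfsg.Agent.Lib.Helper6.TC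
open Cfsg.Agent.PL (Acts evalF)

/-- the table agrees with the word -/
theorem eq43 : ∀ q < 31671, f43 q = wordR W43 q :=
  eq_of_chunks (f := f43) (g := wordR W43) [(0, 7918), (7918, 7918), (15836, 7918), (23754, 7917)] (by decide) (by
    intro c hc
    simp only [List.mem_cons, List.not_mem_nil, or_false] at hc
    rcases hc with rfl | rfl | rfl | rfl
    · exact eq43_0
    · exact eq43_1
    · exact eq43_2
    · exact eq43_3
  )

theorem rep43 : Rep K f43 :=
  (rep_wordR (l := W43) (Reps.cons rep39 (Reps.cons rep39 (Reps.cons rep42 (Reps.cons rep42 (Reps.cons rep41 (Reps.cons rep41 (Reps.cons rep39 (Reps.cons rep39 (Reps.cons rep41 (Reps.cons rep37 (Reps.cons rep38 (Reps.cons rep38 (Reps.cons rep42 (Reps.cons rep41 (Reps.cons rep41 (Reps.cons rep37 (Reps.cons repK10 (Reps.cons repK36 (Reps.cons repK36 (Reps.cons rep40 (Reps.cons repK10 (Reps.cons repK10 (Reps.cons repK36 (Reps.cons rep42 (Reps.cons rep40 (Reps.cons rep39 (Reps.cons rep41 (Reps.cons repK10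 (Reps.cons rep41 (Reps.cons repK10 (Reps.cons rep38 (Reps.cons rep40 (Reps.nil K)))))))))))))))))))))))))))))))))).congr eq43

end Cfsg.Agent.Fi23Out
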