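import Cfsg.Agent.Lib.Lead.Fi23Out.C44
import Cfsg.Agent.Lib.Lead.Fi23Out.T37
import Cfsg.Agent.Lib.Lead.Fi23Out.T38
import Cfsg.Agent.Lib.Lead.Fi23Out.T39
import Cfsg.Agent.Lib.Lead.Fi23Out.T40
import Cfsg.Agent.Lib.Lead.Fi23Out.T41
import Cfsg.Agent.Lib.Lead.Fi23Out.T42
import Cfsg.Agent.Lib.Lead.Fi23Out.T43
import Cfsg.Agent.Lib.Lead.Fi23Out.XYW

/-! # The outer automorphism group of Fi₂₃: the element number 44 (generated) -/

set_option autoImplicit false
set_option maxRecDepth 100000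

namespace Cfsg.Agent.Fi23Out

open Cfsg.Agent.PF Cfsg.Agent.Lib.Helper6 Cfsg.Agent.Lib.Helper6.TC
open Cfsg.Agent.PL (Acts evalF)

/-- the table agrees with the word -/
theorem eq44 : ∀ q < 31671, f44 q = wordR W44 q :=
  eq_of_chunks (f := f44) (g := wordR W44) [(0, 6335), (6335, 6335), (12670, 6335), (19005, 6335), (25340, 6331)] (by decide) (by
    intro c hc
    simp only [List.mem_cons, List.not_mem_nil, or_false] at hc
    rcases hc with rfl | rfl | rfl | rfl | rfl
    · exact eq44_0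
    · exact eq44_1
    · exact eq44_2
    · exact eq44_3
    · exact eq44_4
  )

theorem rep44 : Rep K f44 :=
  (rep_wordR (l := W44) (Reps.cons rep41 (Reps.cons rep43 (Reps.cons rep42 (Reps.cons rep41 (Reps.cons rep43 (Reps.cons rep42 (Reps.cons rep43 (Reps.cons rep42 (Reps.cons rep39 (Reps.cons rep43 (Reps.cons rep42 (Reps.cons rep40 (Reps.cons rep41 (Reps.cons rep39 (Reps.cons rep40 (Reps.cons rep37 (Reps.cons rep37 (Reps.cons rep38 (Reps.cons rep43 (Reps.cons rep39 (Reps.cons rep37 (Reps.cons rep42 (Reps.cons repK10 (Reps.cons repK25 (Reps.cons rep39 (Reps.cons rep41 (Reps.cons rep39 (Reps.cons repK36 (Reps.cons rep42 (Reps.cons rep37 (Reps.cons repK10 (Reps.cons rep37 (Reps.cons rep42 (Reps.cons rep42 (Reps.cons rep37 (Reps.cons rep40 (Reps.cons rep42 (Reps.nil K))))))))))))))))))))))))))))))))))))))).congr eq44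

end Cfsg.Agent.Fi23Out
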