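import Cfsg.Agent.Lib.Lead.Fi23Out.C45
import Cfsg.Agent.Lib.Lead.Fi23Out.T39
import Cfsg.Agent.Lib.Lead.Fi23Out.T41
import Cfsg.Agent.Lib.Lead.Fi23Out.T42
import Cfsg.Agent.Lib.Lead.Fi23Out.T43
import Cfsg.Agent.Lib.Lead.Fi23Out.T44
import Cfsg.Agent.Lib.Lead.Fi23Out.XYW

/-! # The outer automorphism group of Fi₂₃: the element number 45 (generated) -/

set_option autoImplicit false
set_option maxRecDepth 100000

namespace Cfsg.Agent.Fi23Out

open Cfsg.Agent.PF Cfsg.Agent.Lib.Helper6 Cfsg.Agent.Lib.Helper6.TC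
open Cfsg.Agent.PL (Acts evalF)

/-- the table agrees with the word -/
theorem eq45 : ∀ q < 31671, f45 q = wordR W45 q :=
  eq_of_chunks (f := f45) (g := wordR W45) [(0, 10557), (10557, 10557), (21114, 10557)] (by decide) (by
    intro c hc
    simp only [List.mem_cons, List.not_mem_nil, or_false] at hc
    rcases hc with rfl | rfl | rfl
    · exact eq45_0
    · exact eq45_1
    · exact eq45_2
  )

theorem rep45 : Rep K f45 :=
  (rep_wordR (l := W45) (Reps.cons rep41 (Reps.cons rep43 (Reps.cons rep43 (Reps.cons rep44 (Reps.cons rep41 (Reps.cons rep41 (Reps.cons rep44 (Reps.cons rep39 (Reps.cons rep42 (Reps.cons rep44 (Reps.cons rep43 (Reps.cons rep43 (Reps.cons rep42 (Reps.cons rep41 (Reps.cons rep44 (Reps.cons rep43 (Reps.cons rep43 (Reps.cons rep44 (Reps.cons rep39 (Reps.cons rep42 (Reps.cons rep44 (Reps.cons rep43 (Reps.nil K)))))))))))))))))))))))).congr eq45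

end Cfsg.Agent.Fi23Out
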