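import Cfsg.Agent.Lib.Lead.Fi23Out.C46
import Cfsg.Agent.Lib.Lead.Fi23Out.T37
import Cfsg.Agent.Lib.Lead.Fi23Out.T39
import Cfsg.Agent.Lib.Lead.Fi23Out.T40
import Cfsg.Agent.Lib.Lead.Fi23Out.T41
import Cfsg.Agent.Lib.Lead.Fi23Out.T42
import Cfsg.Agent.Lib.Lead.Fi23Out.T43
import Cfsg.Agent.Lib.Lead.Fi23Out.T44
import Cfsg.Agent.Lib.Lead.Fi23Out.T45
import Cfsg.Agent.Lib.Lead.Fi23Out.XYW

/-! # The outer automorphism group of Fi₂₃: the element number 46 (generated) -/

set_option autoImplicit false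
set_option maxRecDepth 100000

namespace Cfsg.Agent.Fi23Out

open Cfsg.Agent.PF Cfsg.Agent.Lib.Helper6 Cfsg.Agent.Lib.Helper6.TC
open Cfsg.Agent.PL (Acts evalF)

/-- the table agrees with the word -/
theorem eq46 : ∀ q < 31671, f46 q = wordR W46 q :=
  eq_of_chunks (f := f46) (g := wordR W46) [(0, 7918), (7918, 7918), (15836, 7918), (23754, 7917)] (by decide) (by
    intro c hc
    simp only [List.mem_cons, List.not_mem_nil, or_false] at hc
    rcases hc with rfl | rfl | rfl | rfl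
    · exact eq46_0
    · exact eq46_1
    · exact eq46_2
    · exact eq46_3
  )

theorem rep46 : Rep K f46 :=
  (rep_wordR (l := W46) (Reps.cons rep43 (Reps.cons rep45 (Reps.cons rep45 (Reps.cons rep42 (Reps.cons rep43 (Reps.cons rep42 (Reps.cons rep39 (Reps.cons rep42 (Reps.cons rep44 (Reps.cons rep41 (Reps.cons rep45 (Reps.cons rep39 (Reps.cons rep37 (Reps.cons rep40 (Reps.cons rep45 (Reps.cons rep37 (Reps.cons rep43 (Reps.cons rep40 (Reps.cons repK10 (Reps.cons repK10 (Reps.cons repK36 (Reps.cons rep37 (Reps.cons rep39 (Reps.cons rep40 (Reps.cons rep42 (Reps.cons rep42 (Reps.cons rep37 (Reps.cons rep40 (Reps.cons repK10 (Reps.cons rep41 (Reps.cons rep39 (Reps.cons rep43 (Reps.cons rep42 (Reps.cons rep37 (Reps.nil K)))))))))))))))))))))))))))))))))))).congr eq46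

end Cfsg.Agent.Fi23Out
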