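import Cfsg.Agent.Lib.Lead.Fi23Out.DV

/-! # The outer automorphism group of Fi₂₃: the inverse of `w` (generated) -/

set_option autoImplicit false
set_option maxRecDepth 100000

namespace Cfsg.Agent.Fi23Out

open Cfsg.Agent.PF Cfsg.Agent.Lib.Helper6 Cfsg.Agent.Lib.Helper6.TC
open Cfsg.Agent.PL (Acts evalF)

theorem chk_v_0 : allR 0 31671 (fun q => Nat.beq ((fun q => fv (f36 q)) q) ((fun q => q) q)) = true := by decide +kernel

/-- the map of the inverse of `w` -/
theorem chk_v : ∀ q < 31671, (fun q => fv (f36 q)) q = (fun q => q) q :=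
  eq_of_chunks (f := (fun q => fv (f36 q))) (g := (fun q => q)) [(0, 31671)] (by decide) (by
    intro c hc
    simp only [List.mem_cons, List.not_mem_nil, or_false] at hc
    rcases hc with rfl
    · exact chk_v_0
  )

end Cfsg.Agent.Fi23Out
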