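import Cfsg.Agent.Lib.Lead.Fi23Out.ChkXYW
import Cfsg.Agent.Lib.Lead.Fi23Out.XYW
import Cfsg.Agent.Lib.Lead.Fi23Out.TV
import Cfsg.Agent.Lib.Lead.Fi23Out.LevA
import Cfsg.Agent.Lib.Lead.Fi23Out.LevB
import Cfsg.Agent.Lib.Lead.Fi23Out.LevG
import Cfsg.Agent.Lib.Lead.Fi23Out.CntA
import Cfsg.Agent.Lib.Lead.Fi23Out.CntB
import Cfsg.Agent.Lib.Lead.Fi23Out.CntG
import Cfsg.Agent.Lib.Lead.Fi23Out.Cent
import Cfsg.Agent.Lib.Lead.Fi23Out.Kill
import Cfsg.Agent.Lib.Lead.Fi23Out.Rels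
import Cfsg.Agent.Lib.Helper6.Fi23Simple
import Cfsg.Agent.Lib.Helper6.OutGeneric

/-! # The outer automorphism group of the Fischer group Fi₂₃ is trivial (generated) -/

set_option autoImplicit false
set_option maxRecDepth 100000

namespace Cfsg.Agent.Fi23Out

open Cfsg.Agent.PF Cfsg.Agent.Lib.Helper6 Cfsg.Agent.Lib.Helper6.TC
open Cfsg.Agent.PL (Acts evalF)

open Cfsg Cfsg.Spor Cfsg.Agent.PL.Cox

theorem ρ_ne_one : Fi23TC.data.cert.ρ (Simp.wordG Fi23TC.data [0]) ≠ 1 := by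
  intro h1
  have h2 := SimpWPC.ρ_wordG_apply Fi23TC.data (w := [0]) (by show ∀ x ∈ [0], x < 10; decide) 8
    (by show 8 < 31671; norm_num)
  rw [h1] at h2
  have h3 : Fi23TC.tab.trace 8 [0] ≠ 8 := by decide +kernel
  exact h3 h2.symm

/-- the action on the rows is faithful -/
theorem ρ_inj : Function.Injective Fi23TC.data.cert.ρ := by
  have : IsSimpleGroup Fi23 := Fi23Simple.main.1
  exact T3Gen.injective_of_simple _ ρ_ne_one

theorem card_P : Nat.card ↥P = 4089470473293004800 := Cfsg.Agent.PL.Cox.card_P Fi23TC.data ρ_inj Fi23Simple.main.2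

theorem hR : ∀ k < 17, k ≠ 0 → ∃ j : ℕ, ∃ r ∈ ({1, 1} : Finset ℕ), (k * 3 ^ j) % 17 = r % 17 := by
  have h : ∀ k < 17, k ≠ 0 → ∃ j < 16, (k * 3 ^ j) % 17 = 1 % 17 := by decide
  intro k hk hk0
  obtain ⟨j, -, e⟩ := h k hk hk0
  exact ⟨j, 1, by simp, e⟩

theorem hsolve : ∀ i < 17, ∃ a : ℕ, (a + 3 * i) % 17 = (3 * a) % 17 := by
  have h : ∀ i < 17, ∃ a < 17, (a + 3 * i) % 17 = (3 * a) % 17 := by decide
  intro i hi
  obtain ⟨a, -, e⟩ := h i hi
  exact ⟨a, e⟩

/-- the certificate -/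
noncomputable def setup : FSetup 31671 P where
  N := 4089470473293004800
  hN := card_P
  fuel := 8
  p := 17
  hp := by norm_num
  hp2 := by norm_num
  m := 3
  s := 1
  r₁ := 1
  hR := hR
  hsolve := hsolve
  x := x
  y := y
  w := w
  hx := hx
  hy := hy
  hw := hw
  fx := f10
  fy := f25
  fw := f36
  fv := fv
  ax := ax
  ay := ay
  aw := aw
  chk_v := chk_v
  q₀ := 100
  hq₀ := by norm_num
  chk_x := chk_x
  chk_x1 := chk_x1
  chk_yx := chk_yx
  chk_wy := chk_wy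
  LG := LG0
  LsG := LsG
  hG := hG
  chk_treeG := chk_treeG
  chk_countsG := chk_countsG
  LA := LA0
  LsA := LsA
  hA := hA
  chk_treeA := chk_treeA
  chk_countsA := chk_countsA
  chk_cycA := chk_cycA
  tests := [0]
  chk_centX := chk_centX
  LB := LB0
  LsB := LsB
  hB := hB
  chk_treeB := chk_treeB
  chk_countsB := chk_countsB
  chk_cycB := chk_cycB
  kills := kills
  chk_rels := chk_rels
  testsB := []

/-- the outer automorphism group of the permutation group is trivial -/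
theorem card_out_P : Nat.card (Cfsg.Out ↥P) = 1 := setup.card_out_one rfl chk_kill

/-- **The outer automorphism group of the Fischer group Fi₂₃ is trivial.** -/
theorem card_out : Nat.card (Cfsg.Out Fi23) = 1 := by
  rw [OutGeneric.card_out_congr (iso Fi23TC.data ρ_inj)]
  exact card_out_P

end Cfsg.Agent.Fi23Out
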