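import Cfsg.Agent.Lib.Lead.Fi23Out.D10
import Cfsg.Agent.Lib.Lead.Fi23Out.D25
import Cfsg.Agent.Lib.Lead.Fi23Out.DV
import Cfsg.Agent.Lib.Lead.Fi23Out.Kills

/-! # The outer automorphism group of Fi₂₃: the relation number 0 (generated) -/

set_option autoImplicit false
set_option maxRecDepth 100000

namespace Cfsg.Agent.Fi23Out

open Cfsg.Agent.PF Cfsg.Agent.Lib.Helper6 Cfsg.Agent.Lib.Helper6.TC
open Cfsg.Agent.PL (Acts evalF)

theorem rel0_0 : allR 0 3959 (fun q => Nat.beq ((evalF f10 f25 fv [0, 2])^[36] q) ((fun q => q) q)) = true := by decide +kernel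

theorem rel0_1 : allR 3959 3959 (fun q => Nat.beq ((evalF f10 f25 fv [0, 2])^[36] q) ((fun q => q) q)) = true := by decide +kernel

theorem rel0_2 : allR 7918 3959 (fun q => Nat.beq ((evalF f10 f25 fv [0, 2])^[36] q) ((fun q => q) q)) = true := by decide +kernel

theorem rel0_3 : allR 11877 3959 (fun q => Nat.beq ((evalF f10 f25 fv [0, 2])^[36] q) ((fun q => q) q)) = true := by decide +kernel

theorem rel0_4 : allR 15836 3959 (fun q => Nat.beq ((evalF f10 f25 fv [0, 2])^[36] q) ((fun q => q) q)) = true := by decide +kernel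

theorem rel0_5 : allR 19795 3959 (fun q => Nat.beq ((evalF f10 f25 fv [0, 2])^[36] q) ((fun q => q) q)) = true := by decide +kernel

theorem rel0_6 : allR 23754 3959 (fun q => Nat.beq ((evalF f10 f25 fv [0, 2])^[36] q) ((fun q => q) q)) = true := by decide +kernel

theorem rel0_7 : allR 27713 3958 (fun q => Nat.beq ((evalF f10 f25 fv [0, 2])^[36] q) ((fun q => q) q)) = true := by decide +kernel

/-- a relation -/
theorem rel0 : ∀ q < 31671, (evalF f10 f25 fv [0, 2])^[36] q = (fun q => q) q :=
  eq_of_chunks (f := (evalF f10 f25 fv [0, 2])^[36]) (g := (fun q => q)) [(0, 3959), (3959, 3959), (7918, 3959), (11877, 3959), (15836, 3959), (19795, 3959), (23754, 3959), (27713, 3958)] (by decide) (by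
    intro c hc
    simp only [List.mem_cons, List.not_mem_nil, or_false] at hc
    rcases hc with rfl | rfl | rfl | rfl | rfl | rfl | rfl | rfl
    · exact rel0_0
    · exact rel0_1
    · exact rel0_2
    · exact rel0_3
    · exact rel0_4
    · exact rel0_5
    · exact rel0_6
    · exact rel0_7
  )

end Cfsg.Agent.Fi23Out
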