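import Cfsg.Agent.Lib.Lead.Fi23Out.D10
import Cfsg.Agent.Lib.Lead.Fi23Out.D25
import Cfsg.Agent.Lib.Lead.Fi23Out.DV
import Cfsg.Agent.Lib.Lead.Fi23Out.Kills

/-! # The outer automorphism group of Fi₂₃: the relation number 1 (generated) -/

set_option autoImplicit false
set_option maxRecDepth 100000

namespace Cfsg.Agent.Fi23Out

open Cfsg.Agent.PF Cfsg.Agent.Lib.Helper6 Cfsg.Agent.Lib.Helper6.TC
open Cfsg.Agent.PL (Acts evalF)

theorem rel1_0 : allR 0 3168 (fun q => Nat.beq ((evalF f10 f25 fv [0, 1, 2])^[30] q) ((fun q => q) q)) = true := by decide +kernel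

theorem rel1_1 : allR 3168 3168 (fun q => Nat.beq ((evalF f10 f25 fv [0, 1, 2])^[30] q) ((fun q => q) q)) = true := by decide +kernel

theorem rel1_2 : allR 6336 3168 (fun q => Nat.beq ((evalF f10 f25 fv [0, 1, 2])^[30] q) ((fun q => q) q)) = true := by decide +kernel

theorem rel1_3 : allR 9504 3168 (fun q => Nat.beq ((evalF f10 f25 fv [0, 1, 2])^[30] q) ((fun q => q) q)) = true := by decide +kernel

theorem rel1_4 : allR 12672 3168 (fun q => Nat.beq ((evalF f10 f25 fv [0, 1, 2])^[30] q) ((fun q => q) q)) = true := by decide +kernel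

theorem rel1_5 : allR 15840 3168 (fun q => Nat.beq ((evalF f10 f25 fv [0, 1, 2])^[30] q) ((fun q => q) q)) = true := by decide +kernel

theorem rel1_6 : allR 19008 3168 (fun q => Nat.beq ((evalF f10 f25 fv [0, 1, 2])^[30] q) ((fun q => q) q)) = true := by decide +kernel

theorem rel1_7 : allR 22176 3168 (fun q => Nat.beq ((evalF f10 f25 fv [0, 1, 2])^[30] q) ((fun q => q) q)) = true := by decide +kernel

theorem rel1_8 : allR 25344 3168 (fun q => Nat.beq ((evalF f10 f25 fv [0, 1, 2])^[30] q) ((fun q => q) q)) = true := by decide +kernel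

theorem rel1_9 : allR 28512 3159 (fun q => Nat.beq ((evalF f10 f25 fv [0, 1, 2])^[30] q) ((fun q => q) q)) = true := by decide +kernel

/-- a relation -/
theorem rel1 : ∀ q < 31671, (evalF f10 f25 fv [0, 1, 2])^[30] q = (fun q => q) q :=
  eq_of_chunks (f := (evalF f10 f25 fv [0, 1, 2])^[30]) (g := (fun q => q)) [(0, 3168), (3168, 3168), (6336, 3168), (9504, 3168), (12672, 3168), (15840, 3168), (19008, 3168), (22176, 3168), (25344, 3168), (28512, 3159)] (by decide) (by
    intro c hc
    simp only [List.mem_cons, List.not_mem_nil, or_false] at hc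
    rcases hc with rfl | rfl | rfl | rfl | rfl | rfl | rfl | rfl | rfl | rfl
    · exact rel1_0
    · exact rel1_1
    · exact rel1_2
    · exact rel1_3
    · exact rel1_4
    · exact rel1_5
    · exact rel1_6
    · exact rel1_7
    · exact rel1_8
    · exact rel1_9
  )

end Cfsg.Agent.Fi23Out
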