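import Cfsg.Agent.Lib.Lead.Fi23Out.C34
import Cfsg.Agent.Lib.Lead.Fi23Out.T30
import Cfsg.Agent.Lib.Lead.Fi23Out.T31
import Cfsg.Agent.Lib.Lead.Fi23Out.T32
import Cfsg.Agent.Lib.Lead.Fi23Out.T33

/-! # The outer automorphism group of Fi₂₃: the element number 34 (generated) -/

set_option autoImplicit false
set_option maxRecDepth 100000

namespace Cfsg.Agent.Fi23Out

open Cfsg.Agent.PF Cfsg.Agent.Lib.Helper6 Cfsg.Agent.Lib.Helper6.TC
open Cfsg.Agent.PL (Acts evalF)

/-- the table agrees with the word -/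
theorem eq34 : ∀ q < 31671, f34 q = wordR W34 q :=
  eq_of_chunks (f := f34) (g := wordR W34) [(0, 15836), (15836, 15835)] (by decide) (by
    intro c hc
    simp only [List.mem_cons, List.not_mem_nil, or_false] at hc
    rcases hc with rfl | rfl
    · exact eq34_0
    · exact eq34_1
  )

theorem rep34 : Rep P f34 :=
  (rep_wordR (l := W34) (Reps.cons rep30 (Reps.cons rep32 (Reps.cons rep30 (Reps.cons rep32 (Reps.cons rep33 (Reps.cons rep31 (Reps.cons rep31 (Reps.cons rep33 (Reps.cons rep33 (Reps.cons rep31 (Reps.cons rep33 (Reps.cons rep32 (Reps.nil P)))))))))))))).congr eq34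

end Cfsg.Agent.Fi23Out
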